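import Mathlib

/-!
# The octahedral axiom, composition form; lifting in shifted triangles (helper5)
-/
set_option autoImplicit false
set_option linter.unusedSectionVars false
set_option linter.unusedVariables false
open CategoryTheory CategoryTheory.Limits Pretriangulated

namespace Groth.Agent.Lib.Helper5.Approx

section Octa

variable {D : Type*} [Category D] [Preadditive D] [HasZeroObject D] [HasShift D ℤ]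
  [∀ n : ℤ, (shiftFunctor D n).Additive] [Pretriangulated D]

/-- the octahedral axiom for a composition `X₁ ⟶ X₂ ⟶ X₃` -/
theorem octa_compose [IsTriangulated D] {X₁ X₂ X₃ Z₁₂ Z₂₃ : D}
    (u₁₂ : X₁ ⟶ X₂) (v₁₂ : X₂ ⟶ Z₁₂) (w₁₂ : Z₁₂ ⟶ X₁⟦(1 : ℤ)⟧)
    (h₁₂ : Triangle.mk u₁₂ v₁₂ w₁₂ ∈ distTriang D)
    (u₂₃ : X₂ ⟶ X₃) (v₂₃ : X₃ ⟶ Z₂₃) (w₂₃ : Z₂₃ ⟶ X₂⟦(1 : ℤ)⟧)
    (h₂₃ : Triangle.mk u₂₃ v₂₃ w₂₃ ∈ distTriang D) :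
    ∃ (Z₁₃ : D) (v₁₃ : X₃ ⟶ Z₁₃) (w₁₃ : Z₁₃ ⟶ X₁⟦(1 : ℤ)⟧) (m₁ : Z₁₂ ⟶ Z₁₃) (m₃ : Z₁₃ ⟶ Z₂₃),
      Triangle.mk (u₁₂ ≫ u₂₃) v₁₃ w₁₃ ∈ distTriang D ∧
      Triangle.mk m₁ m₃ (w₂₃ ≫ v₁₂⟦(1 : ℤ)⟧') ∈ distTriang D := by
  obtain ⟨Z₁₃, v₁₃, w₁₃, h₁₃⟩ := distinguished_cocone_triangle (u₁₂ ≫ u₂₃)
  let o := Triangulated.someOctahedron (u₁₂ := u₁₂) (u₂₃ := u₂₃) (u₁₃ := u₁₂ ≫ u₂₃) rfl
    h₁₂ h₂₃ h₁₃
  exact ⟨Z₁₃, v₁₃, w₁₃, o.m₁, o.m₃, h₁₃, o.mem⟩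

/-- lifting along the second map of a shifted distinguished triangle -/
theorem exists_lift_shift (T : Triangle D) (hT : T ∈ distTriang D) {A : D} (i : ℤ)
    (w : A ⟶ T.obj₃⟦i⟧) (hw : w ≫ T.mor₃⟦i⟧' = 0) :
    ∃ v : A ⟶ T.obj₂⟦i⟧, v ≫ T.mor₂⟦i⟧' = w := by
  have hTi := Triangle.shift_distinguished _ hT i
  have hw' : w ≫ ((Triangle.shiftFunctor D i).obj T).mor₃ = 0 := by
    show w ≫ (i.negOnePow • (T.mor₃⟦i⟧' ≫ (shiftFunctorComm D 1 i).hom.app T.obj₁)) = 0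
    rw [Units.smul_def, Preadditive.comp_zsmul, ← Category.assoc, hw, zero_comp, smul_zero]
  obtain ⟨v, hv⟩ : ∃ v : A ⟶ T.obj₂⟦i⟧, w = v ≫ (i.negOnePow • T.mor₂⟦i⟧') :=
    Triangle.coyoneda_exact₃ _ hTi w hw'
  refine ⟨(i.negOnePow : ℤ) • v, ?_⟩
  rw [hv, Units.smul_def, Preadditive.zsmul_comp, Preadditive.comp_zsmul]

end Octa

end Groth.Agent.Lib.Helper5.Approx
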