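import Mathlib
import Groth.Prelude.Def_DRing2
import Groth.Agent.Lib.Helper3.HomUnit
import Groth.Agent.Lib.Helper5.DRing.AmpPerf
import Groth.Agent.Lib.Helper5.BvdB.KoszulRing2

/-!
# Koszul factorisation with amplitude control (helper5)
-/
set_option autoImplicit false
set_option linter.unusedSectionVars false
set_option linter.unusedVariables false
universe w v u
open CategoryTheory CategoryTheory.Limits Pretriangulated
attribute [local instance] HasDerivedCategory.standard

namespace Groth.Agent.Lib.Helper5.Approx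

open DerivedCategory Groth.Agent.Helper5.Summand Groth.Agent.Helper5.DRingCone
  Groth.Agent.Lib.Helper5.BvdB

section Gen

variable {C : Type u} [Category.{v} C] [Abelian C] [HasDerivedCategory.{w} C]

/-- maps from a complex of projectives living in degrees `≥ a` to an object which is `≤ a - 1`
vanish -/
theorem hom_eq_zero_of_amp (P : ObjectProperty C) (hproj : ∀ X, P X → Projective X)
    {a b : ℤ} {N L : DerivedCategory C} (hN : Amp P a b N) [L.IsLE (a - 1)] (φ : N ⟶ L) :
    φ = 0 := by
  obtain ⟨E, hE1, hE2, ⟨e⟩⟩ := hN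
  haveI : E.IsKProjective := by
    have : E.IsStrictlyLE b := by
      rw [CochainComplex.isStrictlyLE_iff]
      exact fun i hi => hE2 i (Or.inr hi)
    have : ∀ n, Projective (E.X n) := fun n => hproj _ (hE1 n)
    exact CochainComplex.isKProjective_of_projective E b
  obtain ⟨L', hL', ⟨eL⟩⟩ := L.exists_iso_Q_obj_of_isLE (a - 1)
  obtain ⟨f, hf⟩ := Groth.Agent.Helper5.ConeG.exists_chain_map E L' (e.hom ≫ φ ≫ eL.hom)
  have hf0 : f = 0 := by
    ext i
    by_cases hi : i < a
    · exact (hE2 i (Or.inl hi)).eq_of_src _ _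
    · exact (CochainComplex.isZero_of_isStrictlyLE L' (a - 1) i (by omega)).eq_of_tgt _ _
  rw [hf0, Functor.map_zero] at hf
  have h1 : φ = e.inv ≫ (e.hom ≫ φ ≫ eL.hom) ≫ eL.inv := by simp
  rw [h1, ← hf, zero_comp, comp_zero]

end Gen

end Groth.Agent.Lib.Helper5.Approx
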