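import Mathlib
import Groth.Agent.Lib.Helper5.Approx.RingAmp

/-!
# Koszul factorisation with amplitude control, II (helper5)
-/
set_option autoImplicit false
set_option linter.unusedSectionVars false
set_option linter.unusedVariables false
universe u
open CategoryTheory CategoryTheory.Limits Pretriangulated
attribute [local instance] HasDerivedCategory.standard

namespace Groth.Agent.Lib.Helper5.Approx

open DerivedCategory Groth.Agent.Helper5.Summand Groth.Agent.Helper5.DRingCone
  Groth.Agent.Lib.Helper5.BvdB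
open DerivedCategory.HomologySequence

variable {R : Type u} [CommRing R]

/-- the cohomology modules of `M` in degrees `≥ a` are `f`-power torsion -/
def TorsGE (f : R) (a : ℤ) (M : Dual.D R) : Prop :=
  ∀ n : ℤ, a ≤ n → ∀ x : Dual.HD R M n, ∃ e : ℕ, f ^ e • x = 0

theorem TorsGE.mono {f : R} {a a' : ℤ} {M : Dual.D R} (h : TorsGE f a M) (ha : a ≤ a') :
    TorsGE f a' M := fun n hn x => h n (by omega) x

/-- maps from a perfect complex of amplitude `[a, b]` to an object whose cohomology in degrees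
`≥ a` is `f`-power torsion are killed by a power of `f` -/
theorem exists_pow_smul_eq_zero_amp (f : R) {a b : ℤ} (hab : a ≤ b) (N : Dual.D R)
    (hN : Amp (FP R) a b N) (M : Dual.D R) (hM : TorsGE f a M) (ψ : N ⟶ M) :
    ∃ e : ℕ, (f ^ e) • ψ = 0 := by
  obtain ⟨A, B, hA, hB, i, p, d, hT⟩ :=
    (TStructure.t : Triangulated.TStructure (Dual.D R)).exists_triangle M (a - 1) a (by omega)
  haveI : A.IsLE (a - 1) := ⟨hA⟩
  haveI : B.IsGE a := ⟨hB⟩
  have hBt : PowTors f B := by
    intro n x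
    by_cases hn : n < a
    · have hz : IsZero ((DerivedCategory.homologyFunctor (ModuleCat.{u} R) n).obj B) :=
        DerivedCategory.isZero_of_isGE B a n hn
      have : Subsingleton (Dual.HD R B n) := ModuleCat.subsingleton_of_isZero hz
      exact ⟨0, Subsingleton.elim _ _⟩
    · have hz : IsZero ((DerivedCategory.homologyFunctor (ModuleCat.{u} R) (n + 1)).obj A) :=
        DerivedCategory.isZero_of_isLE A (a - 1) (n + 1) (by omega)
      have hδ : δ (Triangle.mk i p d) n (n + 1) rfl = 0 := hz.eq_of_tgt _ _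
      have hepi : Epi ((DerivedCategory.homologyFunctor (ModuleCat.{u} R) n).map p) :=
        (epi_homologyMap_mor₂_iff (Triangle.mk i p d) hT n (n + 1) rfl).2 hδ
      rw [ModuleCat.epi_iff_surjective] at hepi
      obtain ⟨y, rfl⟩ := hepi x
      obtain ⟨e, he⟩ := hM n (by omega) y
      refine ⟨e, ?_⟩
      rw [← map_smul, he, map_zero]
  have hNp : DRing.IsPerfect R N := (amp_iff N).2 ⟨a, b, hab, hN⟩
  obtain ⟨e, he⟩ := exists_pow_smul_eq_zero f N hNp B hBt (ψ ≫ p)
  refine ⟨e, ?_⟩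
  have h1 : ((f ^ e) • ψ) ≫ p = 0 := by rw [Linear.smul_comp]; exact he
  obtain ⟨θ, hθ⟩ := Triangle.coyoneda_exact₂ _ hT _ h1
  have hθ0 : θ = 0 := by
    haveI : (Triangle.mk i p d).obj₁.IsLE (a - 1) := ⟨hA⟩
    exact hom_eq_zero_of_amp (FP R) hyp_fp.proj hN θ
  rw [hθ, hθ0]
  exact zero_comp

/-- **Koszul factorisation with amplitude control** -/
theorem exists_factor_amp (b : ℤ) (M : Dual.D R) :
    ∀ (fs : List R), (∀ f ∈ fs, TorsGE f (b - fs.length + 1) M) →
    ∀ (P : Dual.D R), Amp (FP R) b b P → ∀ ψ : P ⟶ M,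
      ∃ (N : Dual.D R) (ι : P ⟶ N) (ψ' : N ⟶ M), Amp (FP R) (b - fs.length) b N ∧
        ι ≫ ψ' = ψ ∧ ∀ f ∈ fs, ∃ a : ℕ, (f ^ a) • 𝟙 N = 0 := by
  intro fs
  induction fs with
  | nil =>
    intro hM P hP ψ
    exact ⟨P, 𝟙 P, ψ, by simpa using hP, Category.id_comp _,
      fun f hf => absurd hf (List.not_mem_nil)⟩
  | cons f fs ih =>
    intro hM P hP ψ
    have hlen : ((f :: fs).length : ℤ) = (fs.length : ℤ) + 1 := by
      rw [List.length_cons]; push_cast; ring
    obtain ⟨N, ι, ψ', hN, hι, hann⟩ :=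
      ih (fun g hg => (hM g (List.mem_cons_of_mem _ hg)).mono (by rw [hlen]; omega)) P hP ψ
    have hMf : TorsGE f (b - fs.length) M :=
      (hM f List.mem_cons_self).mono (by rw [hlen]; omega)
    obtain ⟨e, he⟩ := exists_pow_smul_eq_zero_amp f (by omega) N hN M hMf ψ'
    obtain ⟨C, ι', δ, hT⟩ := distinguished_cocone_triangle ((f ^ e) • 𝟙 N)
    have h1 : ((f ^ e) • 𝟙 N) ≫ ψ' = 0 := by rw [Linear.smul_comp, Category.id_comp]; exact he
    obtain ⟨ψ'', hψ''⟩ : ∃ ψ'' : C ⟶ M, ψ' = ι' ≫ ψ'' := Triangle.yoneda_exact₂ _ hT ψ' h1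
    have hC : Amp (FP R) (b - (f :: fs).length) b C := by
      have h2 := Amp.cone hyp_fp.proj hyp_fp.sum _ hT hN hN
      refine h2.mono ?_ ?_
      · rw [hlen]
        have := min_le_left (b - (fs.length : ℤ) - 1) (b - (fs.length : ℤ))
        omega
      · simp
    refine ⟨C, ι ≫ ι', ψ'', hC, ?_, ?_⟩
    · rw [Category.assoc, ← hψ'']
      exact hι
    · have hrot := rot_of_distTriang _ hT
      intro g hg
      rcases List.mem_cons.1 hg with rfl | hg'
      · refine ⟨e + e, ?_⟩
        have h2 : ((g ^ e) • 𝟙 C) ≫ δ = 0 := by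
          have h3 : δ ≫ ((g ^ e) • 𝟙 N)⟦(1 : ℤ)⟧' = 0 := comp_distTriang_mor_zero₃₁ _ hT
          rw [Functor.map_smul, CategoryTheory.Functor.map_id, Linear.comp_smul,
            Category.comp_id] at h3
          rw [Linear.smul_comp, Category.id_comp]
          exact h3
        obtain ⟨θ, hθ⟩ : ∃ θ : C ⟶ N, (g ^ e) • 𝟙 C = θ ≫ ι' :=
          Triangle.coyoneda_exact₃ _ hT _ h2
        have h4 : ((g ^ e) • 𝟙 N) ≫ ι' = 0 := comp_distTriang_mor_zero₁₂ _ hT
        have h5 : (g ^ e) • ι' = 0 := by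
          rw [Linear.smul_comp, Category.id_comp] at h4
          exact h4
        rw [pow_add, mul_smul, hθ, ← Linear.comp_smul, h5, comp_zero]
      · obtain ⟨a, ha⟩ := hann g hg'
        refine ⟨a + a, ?_⟩
        have := smul_id_mid_eq_zero _ hrot (g ^ a) (g ^ a) ha
          (smul_id_shift_eq_zero N (g ^ a) ha 1)
        rw [pow_add]
        exact this

end Groth.Agent.Lib.Helper5.Approx
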