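import Mathlib
import Groth.Agent.Lib.Helper5.Approx.RingAmp2
import Groth.Agent.Lib.Helper5.Approx.Octa
import Groth.Agent.Lib.Helper5.BvdB.Cell
import Groth.Agent.Lib.Helper5.DRing.GlDim

/-!
# Killing the top cohomology by Koszul cells (helper5)
-/
set_option autoImplicit false
set_option linter.unusedSectionVars false
set_option linter.unusedVariables false
universe u
open CategoryTheory CategoryTheory.Limits Pretriangulated
attribute [local instance] HasDerivedCategory.standard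

namespace Groth.Agent.Lib.Helper5.Approx

open DerivedCategory Groth.Agent.Helper5.Summand Groth.Agent.Helper5.DRingCone
  Groth.Agent.Lib.Helper5.BvdB
open DerivedCategory.HomologySequence

variable {R : Type u} [CommRing R]

theorem smul_HD_eq_zero' (N : Dual.D R) (s : R) (h : s • 𝟙 N = 0) (n : ℤ)
    (m : Dual.HD R N n) : s • m = 0 := by
  let φ := Groth.Agent.Helper3.HomUnit.unitEquiv N n
  obtain ⟨ψ, rfl⟩ := φ.surjective m
  rw [← map_smul]
  have : s • ψ = ψ ≫ (s • 𝟙 (N⟦n⟧)) := by rw [Linear.comp_smul, Category.comp_id]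
  rw [this, smul_id_shift_eq_zero N s h n, comp_zero, map_zero]

/-- torsion of the cohomology of a cone of a map from an annihilated object -/
theorem torsGE_cone (f : R) (a : ℤ) (T : Triangle (Dual.D R)) (hT : T ∈ distTriang _)
    (h₁ : ∃ k : ℕ, (f ^ k) • 𝟙 T.obj₁ = 0) (h₂ : TorsGE f a T.obj₂) : TorsGE f a T.obj₃ := by
  intro n hn x
  obtain ⟨k, hk⟩ := h₁
  have hex := DerivedCategory.HomologySequence.exact₃ T hT n (n + 1) rfl
  rw [ShortComplex.moduleCat_exact_iff] at hex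
  have h1 : (δ T n (n + 1) rfl) (f ^ k • x) = 0 := by
    rw [map_smul]
    exact smul_HD_eq_zero' _ _ hk _ _
  obtain ⟨y, hy⟩ := hex (f ^ k • x) h1
  obtain ⟨e, he⟩ := h₂ n hn y
  refine ⟨e + k, ?_⟩
  have hy' : ((DerivedCategory.homologyFunctor (ModuleCat.{u} R) n).map T.mor₂) y = f ^ k • x := hy
  rw [pow_add, mul_smul, ← hy', ← map_smul, he, map_zero]

/-- attaching one Koszul cell -/
theorem attach_koszul_cell (fs : List R) (t : ℤ) (M : Dual.D R)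
    (htors : ∀ f ∈ fs, TorsGE f (t - fs.length + 1) M) (z : Dual.inD R R ⟶ M⟦t⟧) :
    ∃ (N M₁ : Dual.D R) (ψ : N ⟶ M) (β : M ⟶ M₁) (δ : M₁ ⟶ N⟦(1 : ℤ)⟧),
      Triangle.mk ψ β δ ∈ distTriang _ ∧ Amp (FP R) (t - fs.length) t N ∧
      (∀ f ∈ fs, ∃ a : ℕ, (f ^ a) • 𝟙 N = 0) ∧ z ≫ β⟦t⟧' = 0 := by
  let L : Dual.D R := (Dual.inD R R)⟦-t⟧
  let ι₀ : Dual.inD R R ≅ L⟦t⟧ :=
    ((shiftFunctorCompIsoId (Dual.D R) (-t) t (neg_add_cancel t)).app (Dual.inD R R)).symm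
  let ζ : L ⟶ M := (shiftFunctor (Dual.D R) t).preimage (ι₀.inv ≫ z)
  have hζ : ι₀.hom ≫ ζ⟦t⟧' = z := by simp [ζ]
  have hL : Amp (FP R) t t L := by
    have h0 : Amp (FP R) 0 0 (Dual.inD R R) :=
      Amp.single 0 (ModuleCat.of R R) ⟨inferInstance, inferInstance⟩
    exact (h0.shift (-t)).mono (by omega) (by omega)
  obtain ⟨N, ι, ψ', hN, hι, hann⟩ := exists_factor_amp t M fs htors L hL ζ
  obtain ⟨M₁, β, δ, hT⟩ := distinguished_cocone_triangle ψ'
  refine ⟨N, M₁, ψ', β, δ, hT, hN, hann, ?_⟩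
  have h0 : ψ' ≫ β = 0 := comp_distTriang_mor_zero₁₂ _ hT
  rw [← hζ, ← hι, Category.assoc, ← Functor.map_comp, Category.assoc, h0, comp_zero,
    Functor.map_zero, comp_zero]

/-- **killing the top cohomology by Koszul cells** (Hom form) -/
theorem ring_cells (fs : List R) (t : ℤ) :
    ∀ (k : ℕ) (M : Dual.D R), M.IsLE t → (∀ f ∈ fs, TorsGE f (t - fs.length + 1) M) →
      ∀ zs : Fin k → (Dual.inD R R ⟶ M⟦t⟧), Submodule.span R (Set.range zs) = ⊤ →
      ∃ (C Z : Dual.D R) (π : M ⟶ C) (ι : C ⟶ Z) (δ : Z ⟶ M⟦(1 : ℤ)⟧),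
        Triangle.mk π ι δ ∈ distTriang _ ∧ DRing.IsPerfect R Z ∧
        (∀ f ∈ fs, ∃ a : ℕ, (f ^ a) • 𝟙 Z = 0) ∧ C.IsLE (t - 1) := by
  intro k
  induction k with
  | zero =>
    intro M hM htors zs hzs
    obtain ⟨Z, ι, δ, hT⟩ := distinguished_cocone_triangle (𝟙 M)
    have hZ0 : IsZero Z := (Triangle.isZero₃_iff_isIso₁ _ hT).2 (inferInstance : IsIso (𝟙 M))
    refine ⟨M, Z, 𝟙 M, ι, δ, hT, ?_, ?_, ?_⟩
    · exact (amp_iff Z).2 ⟨0, 0, le_rfl, Amp.of_isZero hZ0 0 0⟩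
    · intro f hf
      exact ⟨0, hZ0.eq_of_src _ _⟩
    · rw [DerivedCategory.isLE_iff]
      intro i hi
      rcases eq_or_lt_of_le (show t ≤ i by omega) with rfl | hi'
      · have h1 : Set.range zs = ∅ := Set.range_eq_empty zs
        rw [h1, Submodule.span_empty] at hzs
        have h2 : Subsingleton (Dual.inD R R ⟶ M⟦t⟧) := by
          refine ⟨fun a b => ?_⟩
          have ha : a ∈ (⊥ : Submodule R (Dual.inD R R ⟶ M⟦t⟧)) := by rw [hzs]; trivial
          have hb : b ∈ (⊥ : Submodule R (Dual.inD R R ⟶ M⟦t⟧)) := by rw [hzs]; trivial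
          rw [(Submodule.mem_bot R).1 ha, (Submodule.mem_bot R).1 hb]
        have h3 : Subsingleton (Dual.HD R M t) :=
          (Groth.Agent.Helper3.HomUnit.unitEquiv M t).symm.toEquiv.subsingleton
        exact ModuleCat.isZero_of_subsingleton _
      · exact DerivedCategory.isZero_of_isLE M t i hi'
  | succ k ih =>
    intro M hM htors zs hzs
    obtain ⟨N, M₁, ψ, β, δ, hT, hN, hann, hzβ⟩ := attach_koszul_cell fs t M htors (zs 0)
    have hlen : (0 : ℤ) ≤ fs.length := Int.natCast_nonneg _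
    have hNp : DRing.IsPerfect R N := (amp_iff N).2 ⟨_, _, by omega, hN⟩
    haveI : N.IsLE t := hN.isLE
    haveI : (N⟦(1 : ℤ)⟧).IsLE (t - 1) := TStructure.t.isLE_shift N t 1 (t - 1) (by omega)
    haveI : (N⟦(1 : ℤ)⟧).IsLE t := TStructure.t.isLE_of_le (N⟦(1 : ℤ)⟧) (t - 1) t (by omega)
    have hrot := rot_of_distTriang _ hT
    have hM₁ : M₁.IsLE t := by
      have h3 : TStructure.t.IsLE (Triangle.mk ψ β δ).rotate.obj₃ t :=
        (inferInstance : (N⟦(1 : ℤ)⟧).IsLE t)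
      exact TStructure.t.isLE₂ _ hrot t hM h3
    have htors₁ : ∀ f ∈ fs, TorsGE f (t - fs.length + 1) M₁ := fun f hf =>
      torsGE_cone f _ _ hT (hann f hf) (htors f hf)
    have hlift : ∀ w : Dual.inD R R ⟶ M₁⟦t⟧, ∃ v : Dual.inD R R ⟶ M⟦t⟧, v ≫ β⟦t⟧' = w := by
      intro w
      apply exists_lift_shift (Triangle.mk ψ β δ) hT t w
      apply hom_unit_eq_zero
      have h4 : ((N⟦(1 : ℤ)⟧)⟦t⟧).IsLE (-1) :=
        TStructure.t.isLE_shift (N⟦(1 : ℤ)⟧) (t - 1) t (-1) (by omega)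
      exact @DerivedCategory.isZero_of_isLE _ _ _ _ ((N⟦(1 : ℤ)⟧)⟦t⟧) (-1) 0 (by omega) h4
    let Lm : (Dual.inD R R ⟶ M⟦t⟧) →ₗ[R] (Dual.inD R R ⟶ M₁⟦t⟧) :=
      Linear.rightComp R (Dual.inD R R) (β⟦t⟧')
    have hspan : Submodule.span R (Set.range (fun j : Fin k => zs j.succ ≫ β⟦t⟧')) = ⊤ := by
      rw [eq_top_iff]
      intro w _
      obtain ⟨v, rfl⟩ := hlift w
      have hv : v ∈ Submodule.span R (Set.range zs) := by rw [hzs]; trivial
      have h2 : Lm v ∈ Submodule.map Lm (Submodule.span R (Set.range zs)) :=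
        Submodule.mem_map_of_mem hv
      rw [Submodule.map_span] at h2
      refine Submodule.span_le.2 ?_ h2
      rintro _ ⟨_, ⟨j, rfl⟩, rfl⟩
      refine Fin.cases ?_ (fun j' => ?_) j
      · have : Lm (zs 0) = 0 := hzβ
        rw [this]
        exact Submodule.zero_mem _
      · exact Submodule.subset_span ⟨j', rfl⟩
    obtain ⟨C, Z₁, π₁, ι₁, δ₁, hT₁, hZ₁, hann₁, hC⟩ := ih M₁ hM₁ htors₁ _ hspan
    obtain ⟨Z', v₁₃, w₁₃, m₁, m₃, hT₁₃, hoct⟩ :=
      octa_compose β δ (-ψ⟦(1 : ℤ)⟧') hrot π₁ ι₁ δ₁ hT₁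
    refine ⟨C, Z', β ≫ π₁, v₁₃, w₁₃, hT₁₃, ?_, ?_, hC⟩
    · have hN1 : DRing.IsPerfect R (N⟦(1 : ℤ)⟧) :=
        (amp_iff _).2 ⟨_, _, by omega, hN.shift 1⟩
      exact (perfect_two_of_three _ hoct).2.1 hN1 hZ₁
    · intro f hf
      obtain ⟨a, ha⟩ := hann f hf
      obtain ⟨b, hb⟩ := hann₁ f hf
      refine ⟨a + b, ?_⟩
      rw [pow_add]
      exact smul_id_mid_eq_zero _ hoct (f ^ a) (f ^ b) (smul_id_shift_eq_zero N _ ha 1) hb

/-- **killing the top cohomology by a perfect complex annihilated by powers of the `f`'s** -/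
theorem ring_step (fs : List R) (t : ℤ) (M : Dual.D R) (hM : M.IsLE t)
    (hfg : Module.Finite R (Dual.HD R M t))
    (htors : ∀ f ∈ fs, TorsGE f (t - fs.length + 1) M) :
    ∃ (C Z : Dual.D R) (π : M ⟶ C) (ι : C ⟶ Z) (δ : Z ⟶ M⟦(1 : ℤ)⟧),
      Triangle.mk π ι δ ∈ distTriang _ ∧ DRing.IsPerfect R Z ∧
      (∀ f ∈ fs, ∃ a : ℕ, (f ^ a) • 𝟙 Z = 0) ∧ C.IsLE (t - 1) := by
  haveI : Module.Finite R (Dual.inD R R ⟶ M⟦t⟧) :=
    Module.Finite.equiv (Groth.Agent.Helper3.HomUnit.unitEquiv M t).symm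
  obtain ⟨k, zs, hzs⟩ := Submodule.fg_iff_exists_fin_generating_family.1
    (Module.Finite.fg_top (R := R) (M := (Dual.inD R R ⟶ M⟦t⟧)))
  exact ring_cells fs t k M hM htors zs hzs

end Groth.Agent.Lib.Helper5.Approx
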