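import Mathlib
import Groth.Prelude.Def_DCoh3
import Groth.Agent.Lib.Helper5.BvdB.GenSupp
import Groth.Agent.Lib.Helper5.Approx.Octa
import Groth.Agent.Lib.Helper5.Perf.ClPushA
import Groth.Agent.Lib.Helper5.Perf.LocalCoh

/-!
# Approximation by perfect complexes with supports: basics (helper5)
-/
set_option autoImplicit false
set_option linter.unusedSectionVars false
set_option linter.unusedVariables false
universe u
open CategoryTheory CategoryTheory.Limits AlgebraicGeometry Pretriangulated TopologicalSpace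
open scoped ZeroObject
attribute [local instance] HasDerivedCategory.standard

namespace Groth.Agent.Lib.Helper5.Approx

open Groth.Agent.Lib.Helper5 Groth.Agent.Lib.Helper5.QC
  Groth.Agent.Lib.Helper5.TildePC Groth.Agent.Lib.Helper5.PerfTri
  Groth.Agent.Lib.Helper5.CountHom Groth.Agent.Lib.Helper5.HomVanish
  Groth.Agent.Lib.Helper5.BvdB Groth.Agent.Lib.Helper5.RpushSupp
  Groth.Agent.Lib.Helper5.LocalCoh Groth.Agent.Lib.Helper5.PCApprox
open DerivedCategory.HomologySequence

section Basic

variable {X : Scheme.{u}}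

/-- the cohomology sheaves of `K` in degrees `≥ a` have vanishing stalks at the points of `S` -/
def VanishGE (a : ℤ) (K : DCoh.D X) (S : Set X) : Prop :=
  ∀ x ∈ S, ∀ n : ℤ, a ≤ n → Subsingleton ((DCoh.HD K n).presheaf.stalk x)

theorem VanishGE.of_iso {a : ℤ} {K L : DCoh.D X} (e : K ≅ L) {S : Set X}
    (h : VanishGE a K S) : VanishGE a L S := fun x hx n hn =>
  subsingleton_stalk_of_iso ((DerivedCategory.homologyFunctor _ n).mapIso e) x (h x hx n hn)

theorem VanishGE.mono {a a' : ℤ} {K : DCoh.D X} {S S' : Set X} (h : VanishGE a K S)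
    (ha : a ≤ a') (hS : S' ⊆ S) : VanishGE a' K S' :=
  fun x hx n hn => h x (hS hx) n (by omega)

theorem VanishGE.union {a : ℤ} {K : DCoh.D X} {S S' : Set X} (h : VanishGE a K S)
    (h' : VanishGE a K S') : VanishGE a K (S ∪ S') := by
  rintro x (hx | hx) n hn
  · exact h x hx n hn
  · exact h' x hx n hn

theorem vanishGE_of_vanishOn {K : DCoh.D X} {S : Set X} (h : VanishOn K S) (a : ℤ) :
    VanishGE a K S := fun x hx n _ => h x hx n

theorem vanishGE_restrictD_iff {U : Scheme.{u}} (j : U ⟶ X) [IsOpenImmersion j] (a : ℤ)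
    (K : DCoh.D X) (S : Set U) :
    VanishGE a ((DCoh.restrictD j).obj K) S ↔ VanishGE a K (j.base '' S) := by
  have key : ∀ (y : U) (n : ℤ),
      Subsingleton ((DCoh.HD ((DCoh.restrictD j).obj K) n).presheaf.stalk y) ↔
        Subsingleton ((DCoh.HD K n).presheaf.stalk (j.base y)) := by
    intro y n
    let e1 := (Scheme.Modules.toPresheaf U ⋙ TopCat.Presheaf.stalkFunctor AddCommGrpCat.{u} y).mapIso
      (Groth.Agent.Lib.Helper5.PCCoh.hdRestrictJIso j K n)
    let e2 := (Scheme.Modules.restrictStalkNatIso j y).app (DCoh.HD K n)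
    let e := (e1 ≪≫ e2).addCommGroupIsoToAddEquiv.toEquiv
    exact ⟨fun h => @Equiv.subsingleton _ _ e.symm h, fun h => @Equiv.subsingleton _ _ e h⟩
  constructor
  · rintro h _ ⟨y, hy, rfl⟩ n hn
    exact (key y n).1 (h y hy n hn)
  · intro h y hy n hn
    exact (key y n).2 (h _ ⟨y, hy, rfl⟩ n hn)

/-- `IsLE` in terms of stalks -/
theorem isLE_iff_vanishGE_univ (a : ℤ) (K : DCoh.D X) :
    K.IsLE (a - 1) ↔ VanishGE a K Set.univ := by
  constructor
  · intro h x _ n hn
    have h0 : IsZero (DCoh.HD K n) := DerivedCategory.isZero_of_isLE K (a - 1) n (by omega)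
    exact subsingleton_stalk_of_isZero_restrict _ (⊤ : X.Opens)
      (Functor.map_isZero (Scheme.Modules.restrictFunctor (⊤ : X.Opens).ι) h0) x trivial
  · intro h
    rw [DerivedCategory.isLE_iff]
    intro i hi
    apply isZero_of_locally
    intro x
    exact ⟨⊤, trivial, isZero_restrict_of_stalks _ _ (fun y _ => h y trivial i (by omega))⟩

/-- vanishing on an open in terms of the restriction -/
theorem vanishGE_iff_isLE (U : X.Opens) (a : ℤ) (K : DCoh.D X) :
    VanishGE a K (U : Set X) ↔ ((DCoh.restrictD U.ι).obj K).IsLE (a - 1) := by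
  rw [isLE_iff_vanishGE_univ, vanishGE_restrictD_iff]
  have : (fun x => U.ι.base x) '' (Set.univ : Set ↥(U : Scheme.{u})) = (U : Set X) := by
    ext y
    constructor
    · rintro ⟨x, _, rfl⟩
      exact x.2
    · intro hy
      exact ⟨⟨y, hy⟩, trivial, rfl⟩
  rw [this]

/-- `IsLE` is preserved by restriction along open immersions -/
theorem isLE_restrictJ {U : Scheme.{u}} (j : U ⟶ X) [IsOpenImmersion j] (n : ℤ) (K : DCoh.D X)
    (h : K.IsLE n) : ((DCoh.restrictD j).obj K).IsLE n := by
  have h1 : K.IsLE (n + 1 - 1) := by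
    have : n + 1 - 1 = n := by omega
    rw [this]
    exact h
  have h2 := (isLE_iff_vanishGE_univ (n + 1) K).1 h1
  have h3 : ((DCoh.restrictD j).obj K).IsLE (n + 1 - 1) := by
    rw [isLE_iff_vanishGE_univ, vanishGE_restrictD_iff]
    exact h2.mono le_rfl (fun _ _ => trivial)
  have : n + 1 - 1 = n := by omega
  rw [this] at h3
  exact h3

/-- vanishing of the middle vertex of a triangle on an open -/
theorem vanishOn_obj₂ (W : X.Opens) (T : Triangle (DCoh.D X)) (hT : T ∈ distTriang _)
    (h₁ : VanishOn T.obj₁ (W : Set X)) (h₃ : VanishOn T.obj₃ (W : Set X)) :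
    VanishOn T.obj₂ (W : Set X) := by
  rw [← isZero_restrictD_iff_vanishOn] at h₁ h₃ ⊢
  have hT' := (DCoh.restrictD W.ι).map_distinguished _ hT
  exact (Triangle.isZero₂_iff _ hT').2 ⟨h₁.eq_of_src _ _, h₃.eq_of_tgt _ _⟩

/-- vanishing in high degrees of the third vertex of a triangle on an open -/
theorem vanishGE_obj₃ (W : X.Opens) (a : ℤ) (T : Triangle (DCoh.D X)) (hT : T ∈ distTriang _)
    (h₁ : VanishOn T.obj₁ (W : Set X)) (h₂ : VanishGE a T.obj₂ (W : Set X)) :
    VanishGE a T.obj₃ (W : Set X) := by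
  rw [← isZero_restrictD_iff_vanishOn] at h₁
  rw [vanishGE_iff_isLE] at h₂ ⊢
  have hT' := (DCoh.restrictD W.ι).map_distinguished _ hT
  have hiso : IsIso ((DCoh.restrictD W.ι).map T.mor₂) :=
    (Triangle.isZero₁_iff_isIso₂ _ hT').1 h₁
  exact DerivedCategory.TStructure.t.isLE_of_iso (asIso ((DCoh.restrictD W.ι).map T.mor₂)) (a - 1)

end Basic

end Groth.Agent.Lib.Helper5.Approx
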