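import Mathlib
import Groth.Agent.Lib.Helper5.Approx.Basic

/-!
# Approximation by perfect complexes with supports: the notion (helper5)
-/
set_option autoImplicit false
set_option linter.unusedSectionVars false
set_option linter.unusedVariables false
universe u
open CategoryTheory CategoryTheory.Limits AlgebraicGeometry Pretriangulated TopologicalSpace
open scoped ZeroObject
attribute [local instance] HasDerivedCategory.standard

namespace Groth.Agent.Lib.Helper5.Approx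

open Groth.Agent.Lib.Helper5 Groth.Agent.Lib.Helper5.QC
  Groth.Agent.Lib.Helper5.TildePC Groth.Agent.Lib.Helper5.PerfTri
  Groth.Agent.Lib.Helper5.CountHom Groth.Agent.Lib.Helper5.HomVanish
  Groth.Agent.Lib.Helper5.BvdB Groth.Agent.Lib.Helper5.RpushSupp
  Groth.Agent.Lib.Helper5.LocalCoh Groth.Agent.Lib.Helper5.PCApprox
open DerivedCategory.HomologySequence

variable {X : Scheme.{u}}

/-- `E` admits a map to an object `C` which is `≤ m - 1` whose cone is perfect and vanishes on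
`W`; equivalently a map `P ⟶ E` from a perfect complex supported off `W` which is an isomorphism
on `H^i` for `i > m` and surjective on `H^m` -/
def ApproxOn (W : Set X) (m : ℤ) (E : DCoh.D X) : Prop :=
  ∃ (C Z : DCoh.D X) (π : E ⟶ C) (ι : C ⟶ Z) (δ : Z ⟶ E⟦(1 : ℤ)⟧),
    Triangle.mk π ι δ ∈ distTriang _ ∧ C.IsLE (m - 1) ∧ DCoh.IsPerfect Z ∧ VanishOn Z W

theorem ApproxOn.mono {W W' : Set X} {m : ℤ} {E : DCoh.D X} (h : ApproxOn W m E)
    (hW : W' ⊆ W) : ApproxOn W' m E := by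
  obtain ⟨C, Z, π, ι, δ, hT, hC, hZ, hZW⟩ := h
  exact ⟨C, Z, π, ι, δ, hT, hC, hZ, hZW.mono hW⟩

theorem ApproxOn.of_iso {W : Set X} {m : ℤ} {E E' : DCoh.D X} (h : ApproxOn W m E)
    (e : E ≅ E') : ApproxOn W m E' := by
  obtain ⟨C, Z, π, ι, δ, hT, hC, hZ, hZW⟩ := h
  refine ⟨C, Z, e.inv ≫ π, ι, δ ≫ e.hom⟦(1 : ℤ)⟧', ?_, hC, hZ, hZW⟩
  refine isomorphic_distinguished _ hT _ ?_
  refine Triangle.isoMk _ _ e.symm (Iso.refl _) (Iso.refl _) ?_ ?_ ?_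
  · show (e.inv ≫ π) ≫ 𝟙 C = e.inv ≫ π
    rw [Category.comp_id]
  · show ι ≫ 𝟙 Z = 𝟙 C ≫ ι
    rw [Category.comp_id, Category.id_comp]
  · show (δ ≫ e.hom⟦(1 : ℤ)⟧') ≫ e.inv⟦(1 : ℤ)⟧' = 𝟙 Z ≫ δ
    rw [Category.assoc, ← Functor.map_comp, e.hom_inv_id, CategoryTheory.Functor.map_id,
      Category.comp_id, Category.id_comp]

/-- the `P`-form of an approximation -/
theorem ApproxOn.exists_P {W : X.Opens} {m : ℤ} {E : DCoh.D X} (h : ApproxOn (W : Set X) m E) :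
    ∃ (P C : DCoh.D X) (α : P ⟶ E) (π : E ⟶ C) (δ : C ⟶ P⟦(1 : ℤ)⟧),
      Triangle.mk α π δ ∈ distTriang _ ∧ DCoh.IsPerfect P ∧ VanishOn P (W : Set X) ∧
      C.IsLE (m - 1) := by
  obtain ⟨C, Z, π, ι, δ, hT, hC, hZ, hZW⟩ := h
  exact ⟨Z⟦(-1 : ℤ)⟧, C, _, _, _, inv_rot_of_distTriang _ hT, isPerfect_shift hZ (-1),
    VanishOn.shift W hZW (-1), hC⟩

theorem ApproxOn.of_P {W : X.Opens} {m : ℤ} {E P C : DCoh.D X} (α : P ⟶ E) (π : E ⟶ C)
    (δ : C ⟶ P⟦(1 : ℤ)⟧) (hT : Triangle.mk α π δ ∈ distTriang _) (hP : DCoh.IsPerfect P)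
    (hPW : VanishOn P (W : Set X)) (hC : C.IsLE (m - 1)) : ApproxOn (W : Set X) m E :=
  ⟨C, P⟦(1 : ℤ)⟧, π, δ, _, rot_of_distTriang _ hT, hC, isPerfect_shift hP 1,
    VanishOn.shift W hPW 1⟩

/-- **composition of approximations** (octahedral axiom) -/
theorem ApproxOn.compose {W : X.Opens} {m : ℤ} {E E' Z₁ : DCoh.D X} (q : E ⟶ E') (c : E' ⟶ Z₁)
    (d : Z₁ ⟶ E⟦(1 : ℤ)⟧) (hT : Triangle.mk q c d ∈ distTriang _) (hZ₁ : DCoh.IsPerfect Z₁)
    (hZ₁W : VanishOn Z₁ (W : Set X)) (h : ApproxOn (W : Set X) m E') :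
    ApproxOn (W : Set X) m E := by
  obtain ⟨C, Z₂, π, ι, δ, hT₂, hC, hZ₂, hZ₂W⟩ := h
  obtain ⟨Z', v₁₃, w₁₃, m₁, m₃, hT₁₃, hoct⟩ := octa_compose q c d hT π ι δ hT₂
  refine ⟨C, Z', q ≫ π, v₁₃, w₁₃, hT₁₃, hC, ?_, ?_⟩
  · exact (two_of_three _ hoct).2.1 hZ₁ hZ₂
  · exact vanishOn_obj₂ W _ hoct hZ₁W hZ₂W

/-- the zero approximation -/
theorem approxOn_of_isLE (W : Set X) (m : ℤ) (E : DCoh.D X) (hE : E.IsLE (m - 1)) :
    ApproxOn W m E := by
  obtain ⟨Z, ι, δ, hT⟩ := distinguished_cocone_triangle (𝟙 E)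
  have hZ0 : IsZero Z := (Triangle.isZero₃_iff_isIso₁ _ hT).2 (inferInstance : IsIso (𝟙 E))
  exact ⟨E, Z, 𝟙 E, ι, δ, hT, hE, isPerfect_of_isZero Z hZ0, vanishOn_of_isZero hZ0 W⟩

/-- restriction of approximations along open immersions -/
theorem ApproxOn.restrict {U : Scheme.{u}} (j : U ⟶ X) [IsOpenImmersion j] {W : Set X} {m : ℤ}
    {E : DCoh.D X} (h : ApproxOn W m E) :
    ApproxOn ((fun y => j.base y) ⁻¹' W) m ((DCoh.restrictD j).obj E) := by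
  obtain ⟨C, Z, π, ι, δ, hT, hC, hZ, hZW⟩ := h
  have hT' := (DCoh.restrictD j).map_distinguished _ hT
  refine ⟨_, _, _, _, _, hT', isLE_restrictJ j (m - 1) C hC, isPerfect_restrictJ j Z hZ, ?_⟩
  rw [vanishOn_restrictD_iff]
  refine hZW.mono ?_
  rintro _ ⟨y, hy, rfl⟩
  exact hy

/-- an approximation in the map form -/
theorem isApprox_of_isLE_cone {m : ℤ} (T : Triangle (DCoh.D X)) (hT : T ∈ distTriang _)
    (hC : T.obj₃.IsLE (m - 1)) : IsApprox m T.mor₁ := by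
  have hepi : ∀ i : ℤ, m ≤ i → Epi ((DerivedCategory.homologyFunctor X.Modules i).map T.mor₁) := by
    intro i hi
    rw [epi_homologyMap_mor₁_iff T hT i]
    exact (DerivedCategory.isZero_of_isLE T.obj₃ (m - 1) i (by omega)).eq_of_tgt _ _
  refine ⟨fun i hi => ?_, hepi m le_rfl⟩
  haveI := hepi i (le_of_lt hi)
  haveI : Mono ((DerivedCategory.homologyFunctor X.Modules i).map T.mor₁) := by
    rw [mono_homologyMap_mor₁_iff T hT (i - 1) i (by omega)]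
    exact (DerivedCategory.isZero_of_isLE T.obj₃ (m - 1) (i - 1) (by omega)).eq_of_src _ _
  exact isIso_of_mono_of_epi _

theorem ApproxOn.exists_map {W : X.Opens} {m : ℤ} {E : DCoh.D X}
    (h : ApproxOn (W : Set X) m E) :
    ∃ (P : DCoh.D X) (α : P ⟶ E), DCoh.IsPerfect P ∧ VanishOn P (W : Set X) ∧ IsApprox m α := by
  obtain ⟨P, C, α, π, δ, hT, hP, hPW, hC⟩ := h.exists_P
  exact ⟨P, α, hP, hPW, isApprox_of_isLE_cone _ hT hC⟩

/-- approximation by perfect complexes holds on `Y` with supports off `W` -/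
def ApproxHolds (Y : Scheme.{u}) (W : Set Y) : Prop :=
  ∃ r : ℤ, 0 ≤ r ∧ ∀ (m : ℤ) (E : DCoh.D Y), DCoh.IsQCohD E →
    DCoh.IsPseudoCoherentD (m - r) E → VanishGE (m - r) E W → ApproxOn W m E

end Groth.Agent.Lib.Helper5.Approx
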