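import Mathlib
import Groth.Agent.Lib.Helper5.Approx.ApproxOn
import Groth.Agent.Lib.Helper5.Approx.RingCells
import Groth.Agent.Lib.Helper5.Perf.PCSingle
import Groth.Agent.Lib.Helper5.Perf.PCTop
import Groth.Agent.Lib.Helper5.Perf.RelPerf
import Groth.Agent.Lib.Helper5.QC.RpushPC
import Groth.Agent.Lib.Helper1.TildeFT

/-!
# Approximation by perfect complexes with supports: the affine case (helper5)
-/
set_option autoImplicit false
set_option linter.unusedSectionVars false
set_option linter.unusedVariables false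
universe u
open CategoryTheory CategoryTheory.Limits AlgebraicGeometry Pretriangulated TopologicalSpace
open scoped ZeroObject
attribute [local instance] HasDerivedCategory.standard

namespace Groth.Agent.Lib.Helper5.Approx

open Groth.Agent.Lib.Helper5 Groth.Agent.Lib.Helper5.QC
  Groth.Agent.Lib.Helper5.TildePC Groth.Agent.Lib.Helper5.PerfTri
  Groth.Agent.Lib.Helper5.CountHom Groth.Agent.Lib.Helper5.HomVanish
  Groth.Agent.Lib.Helper5.BvdB Groth.Agent.Lib.Helper5.RpushSupp
  Groth.Agent.Lib.Helper5.LocalCoh Groth.Agent.Lib.Helper5.PCApprox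
  Groth.Agent.Lib.Helper5.PCTri Groth.Agent.Lib.Helper5.PCTop Groth.Agent.Lib.Helper5.PCSingle
  Groth.Agent.Lib.Helper5.LpullLib Groth.Agent.Lib.Helper5.PCBiprod

section Spec

variable (R : CommRingCat.{u})

theorem isZero_of_isZero_tilde (H : ModuleCat.{u} R) (h : IsZero (tilde H)) : IsZero H := by
  rw [IsZero.iff_id_eq_zero]
  apply (tilde.functor R).map_injective
  rw [Functor.map_zero]
  exact h.eq_of_src _ _

theorem isLE_of_isLE_tildeD (M : Dual.D R) (t : ℤ) (h : ((DCoh.tildeD R).obj M).IsLE t) :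
    M.IsLE t := by
  rw [DerivedCategory.isLE_iff]
  intro i hi
  apply isZero_of_isZero_tilde
  exact IsZero.of_iso (DerivedCategory.isZero_of_isLE _ t i hi) (hdTildeDIso R M i).symm

theorem isLE_tildeD (M : Dual.D R) (t : ℤ) (h : M.IsLE t) : ((DCoh.tildeD R).obj M).IsLE t := by
  rw [DerivedCategory.isLE_iff]
  intro i hi
  refine IsZero.of_iso ?_ (hdTildeDIso R M i)
  exact (tilde.functor R).map_isZero (DerivedCategory.isZero_of_isLE M t i hi)

/-- **one step of the affine approximation**: killing the top cohomology sheaf -/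
theorem approx_step_spec (fs : List R) (W : (Spec (CommRingCat.of R)).Opens)
    (hW : ∀ x : Spec (CommRingCat.of R),
      x ∈ W ↔ ∃ f ∈ fs, f ∉ (x : PrimeSpectrum.Top R).asIdeal)
    (t : ℤ) (E : DCoh.D (Spec (CommRingCat.of R))) (hE : DCoh.IsQCohD E) (hEt : E.IsLE t)
    (hpc : DCoh.IsPseudoCoherentD t E)
    (hv : VanishGE (t - fs.length + 1) E (W : Set (Spec (CommRingCat.of R)))) :
    ApproxOn (W : Set (Spec (CommRingCat.of R))) t E := by
  classical
  obtain ⟨M, ⟨eM⟩⟩ := ((tildeD_main R).2.2 E).1 hE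
  have hM : M.IsLE t :=
    isLE_of_isLE_tildeD R M t (DerivedCategory.TStructure.t.isLE_of_iso eM.symm t)
  have hft : CohB1.IsFT (tilde ((DerivedCategory.homologyFunctor (ModuleCat.{u} R) t).obj M)) :=
    isFT_of_iso_HD t E hpc (fun i hi => DerivedCategory.isZero_of_isLE E t i hi) _
      ((DerivedCategory.homologyFunctor _ t).mapIso eM.symm ≪≫ hdTildeDIso R M t)
  have hfg : Module.Finite R (Dual.HD R M t) :=
    Groth.Agent.Helper1.TildeFT.finite_of_tilde_isFiniteType R _ hft
  have htors : ∀ f ∈ fs, TorsGE f (t - fs.length + 1) M := by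
    intro f hf n hn m
    refine exists_pow_smul_eq_zero_of_stalks R _ f (fun x hx => ?_) m
    have hxW : x ∈ W := (hW x).2 ⟨f, hf, hx⟩
    exact subsingleton_stalk_of_iso
      ((DerivedCategory.homologyFunctor _ n).mapIso eM.symm ≪≫ hdTildeDIso R M n) x
      (hv x hxW n hn)
  obtain ⟨C₀, Z₀, π₀, ι₀, δ₀, hT₀, hZ₀, hann, hC₀⟩ := ring_step fs t M hM hfg htors
  have hT := (DCoh.tildeD R).map_distinguished _ hT₀
  have h1 : ApproxOn (W : Set (Spec (CommRingCat.of R))) t ((DCoh.tildeD R).obj M) := by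
    refine ⟨_, _, _, _, _, hT, isLE_tildeD R C₀ (t - 1) hC₀, (isPerfect_tildeD_iff R Z₀).2 hZ₀, ?_⟩
    apply vanishOn_tildeD R Z₀
    intro x hx
    obtain ⟨f, hf, hfx⟩ := (hW x).1 hx
    exact ⟨f, hfx, hann f hf⟩
  exact h1.of_iso eM

/-- a general step: an approximation at level `t` with a perfect cone reduces the problem to the
target -/
theorem approxOn_of_step {X : Scheme.{u}} (W : X.Opens) (m r : ℤ) (E : DCoh.D X)
    (hE : DCoh.IsQCohD E) (hpc : DCoh.IsPseudoCoherentD (m - r) E)
    (hv : VanishGE (m - r) E (W : Set X)) (t : ℤ) (hstep : ApproxOn (W : Set X) t E)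
    (hrec : ∀ C : DCoh.D X, DCoh.IsQCohD C → DCoh.IsPseudoCoherentD (m - r) C →
      VanishGE (m - r) C (W : Set X) → C.IsLE (t - 1) → ApproxOn (W : Set X) m C) :
    ApproxOn (W : Set X) m E := by
  obtain ⟨C, Z, π, ι, δ, hT, hC, hZ, hZW⟩ := hstep
  have hCq : DCoh.IsQCohD C :=
    isQCohD_of_triangle_mid _ hT hE (isQCohD_of_isPerfect Z hZ)
  have hCpc : DCoh.IsPseudoCoherentD (m - r) C :=
    (isPC_triangle (m - r) _ hT).2.1 hpc (isPseudoCoherentD_of_isPerfect Z hZ (m - r))
  have hCv : VanishGE (m - r) C (W : Set X) :=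
    vanishGE_obj₃ W (m - r) _ (inv_rot_of_distTriang _ hT) (VanishOn.shift W hZW (-1)) hv
  exact ApproxOn.compose π ι δ hT hZ hZW (hrec C hCq hCpc hCv hC)

/-- **approximation by perfect complexes with supports on `Spec R`** -/
theorem approxHolds_spec (W : (Spec (CommRingCat.of R)).Opens)
    (hWc : IsCompact (W : Set (Spec (CommRingCat.of R)))) :
    ApproxHolds (Spec (CommRingCat.of R)) (W : Set (Spec (CommRingCat.of R))) := by
  classical
  let WS : Set (PrimeSpectrum R) := W.1
  obtain ⟨s, hs⟩ := PrimeSpectrum.isCompact_isOpen_iff.1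
    (⟨hWc, W.2⟩ : IsCompact WS ∧ IsOpen WS)
  have hmem : ∀ x : PrimeSpectrum R, x ∈ WS ↔ ∃ f ∈ s.toList, f ∉ x.asIdeal := by
    intro x
    rw [← hs, Set.mem_compl_iff, PrimeSpectrum.mem_zeroLocus, Set.not_subset]
    simp
  refine ⟨(s.toList.length : ℤ), Int.natCast_nonneg _, ?_⟩
  intro m
  have key : ∀ (n : ℕ) (E : DCoh.D (Spec (CommRingCat.of R))), DCoh.IsQCohD E →
      DCoh.IsPseudoCoherentD (m - s.toList.length) E →
      VanishGE (m - s.toList.length) E (W : Set (Spec (CommRingCat.of R))) →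
      E.IsLE (m - 1 + n) → ApproxOn (W : Set (Spec (CommRingCat.of R))) m E := by
    intro n
    induction n with
    | zero =>
      intro E hE hpc hv hle
      exact approxOn_of_isLE _ m E (by simpa using hle)
    | succ n ih =>
      intro E hE hpc hv hle
      have hlen : (0 : ℤ) ≤ s.toList.length := Int.natCast_nonneg _
      have hle' : E.IsLE (m + n) := by
        have : m - 1 + ((n + 1 : ℕ) : ℤ) = m + n := by push_cast; ring
        rw [this] at hle
        exact hle
      have hstep : ApproxOn (W : Set (Spec (CommRingCat.of R))) (m + n) E :=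
        approx_step_spec R s.toList W hmem (m + n) E hE hle'
          (isPC_mono (by omega) hpc) (hv.mono (by omega) subset_rfl)
      refine approxOn_of_step W m s.toList.length E hE hpc hv (m + n) hstep ?_
      intro C hCq hCpc hCv hC
      refine ih C hCq hCpc hCv ?_
      have : m - 1 + (n : ℤ) = m + n - 1 := by ring
      rw [this]
      exact hC
  intro E hE hpc hv
  haveI : CompactSpace ↥(Spec (CommRingCat.of R)) := inferInstance
  obtain ⟨b, hb⟩ := exists_isLE_of_isPC E _ hpc
  obtain ⟨n, hn⟩ : ∃ n : ℕ, b ≤ m - 1 + n := ⟨(b - (m - 1)).toNat, by omega⟩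
  exact key n E hE hpc hv (DerivedCategory.TStructure.t.isLE_of_le E b _ hn)

end Spec

end Groth.Agent.Lib.Helper5.Approx
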