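import Mathlib
import Groth.Agent.Lib.Helper5.Approx.AffStep
import Groth.Agent.Lib.Helper5.FinPC.IsoSq

/-!
# Approximation by perfect complexes with supports: affine schemes (helper5)
-/
set_option autoImplicit false
set_option linter.unusedSectionVars false
set_option linter.unusedVariables false
universe u
open CategoryTheory CategoryTheory.Limits AlgebraicGeometry Pretriangulated TopologicalSpace
open scoped ZeroObject
attribute [local instance] HasDerivedCategory.standard

namespace Groth.Agent.Lib.Helper5.Approx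

open Groth.Agent.Lib.Helper5 Groth.Agent.Lib.Helper5.QC
  Groth.Agent.Lib.Helper5.TildePC Groth.Agent.Lib.Helper5.PerfTri
  Groth.Agent.Lib.Helper5.CountHom Groth.Agent.Lib.Helper5.HomVanish
  Groth.Agent.Lib.Helper5.BvdB Groth.Agent.Lib.Helper5.RpushSupp
  Groth.Agent.Lib.Helper5.LocalCoh Groth.Agent.Lib.Helper5.PCApprox
  Groth.Agent.Lib.Helper5.PCTri Groth.Agent.Lib.Helper5.IsoSq

/-- transport of approximation along an isomorphism of schemes -/
theorem ApproxHolds.of_iso {Y X' : Scheme.{u}} (φ : Y ≅ X') (W : Set X')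
    (h : ApproxHolds X' W) : ApproxHolds Y ((fun y => φ.hom.base y) ⁻¹' W) := by
  obtain ⟨r, hr, h⟩ := h
  refine ⟨r, hr, ?_⟩
  intro m E hE hpc hv
  let Eq := restrictDEquiv φ
  let F := DCoh.restrictD φ.hom
  let G := DCoh.restrictD φ.inv
  have himg : ∀ x : X', φ.hom.base (φ.inv.base x) = x := by
    intro x
    rw [← Scheme.Hom.comp_apply, φ.inv_hom_id]
    rfl
  have h1 : ApproxOn W m (G.obj E) := by
    apply h m (G.obj E) (isQCohD_restrictJ φ.inv E hE) (isPC_restrictD φ.inv hpc)
    rw [vanishGE_restrictD_iff]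
    refine hv.mono le_rfl ?_
    rintro _ ⟨x, hx, rfl⟩
    show φ.hom.base (φ.inv.base x) ∈ W
    rw [himg x]
    exact hx
  have h2 := ApproxOn.restrict φ.hom h1
  exact h2.of_iso (Eq.counitIso.app E)

section Affine

variable (X : Scheme.{u}) [IsAffine X]

/-- **approximation by perfect complexes with supports on affine schemes** -/
theorem approxHolds_affine (W : X.Opens) (hW : IsCompact (W : Set X)) :
    ApproxHolds X (W : Set X) := by
  let φ : X ≅ Spec (CommRingCat.of Γ(X, ⊤)) := X.isoSpec
  let W' : (Spec (CommRingCat.of Γ(X, ⊤))).Opens := φ.inv ⁻¹ᵁ W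
  have hW' : IsCompact (W' : Set (Spec (CommRingCat.of Γ(X, ⊤)))) := by
    have : (W' : Set (Spec (CommRingCat.of Γ(X, ⊤)))) =
        (Scheme.homeoOfIso φ.symm) ⁻¹' (W : Set X) := rfl
    rw [this, Homeomorph.isCompact_preimage]
    exact hW
  have h := ApproxHolds.of_iso φ _ (approxHolds_spec Γ(X, ⊤) W' hW')
  have hset : (fun y => φ.hom.base y) ⁻¹' (W' : Set (Spec (CommRingCat.of Γ(X, ⊤)))) =
      (W : Set X) := by
    ext x
    show φ.inv.base (φ.hom.base x) ∈ W ↔ x ∈ W
    rw [← Scheme.Hom.comp_apply, φ.hom_inv_id]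
    rfl
  rw [hset] at h
  exact h

end Affine

end Groth.Agent.Lib.Helper5.Approx
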