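import Mathlib
import Groth.Agent.Lib.Helper5.Approx.ApproxOn
import Groth.Agent.Lib.Helper5.BvdB.ExtMapSupp
import Groth.Agent.Lib.Helper5.BvdB.ShriekRes

/-!
# Thomason's extension of maps with supports, Mayer–Vietoris form (helper5)
-/
set_option autoImplicit false
set_option linter.unusedSectionVars false
set_option linter.unusedVariables false
universe u
open CategoryTheory CategoryTheory.Limits AlgebraicGeometry Pretriangulated TopologicalSpace
open scoped ZeroObject
attribute [local instance] HasDerivedCategory.standard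

namespace Groth.Agent.Lib.Helper5.Approx

open Groth.Agent.Lib.Helper5 Groth.Agent.Lib.Helper5.QC
  Groth.Agent.Lib.Helper5.TildePC Groth.Agent.Lib.Helper5.PerfTri
  Groth.Agent.Lib.Helper5.CountHom Groth.Agent.Lib.Helper5.HomVanish
  Groth.Agent.Lib.Helper5.BvdB Groth.Agent.Lib.Helper5.RpushSupp
  Groth.Agent.Lib.Helper5.LocalCoh Groth.Agent.Lib.Helper5.PCApprox
  Groth.Agent.Lib.Helper5.PCTri

variable {Y : Scheme.{u}}

attribute [local instance] preservesFiniteLimits_extZero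
attribute [local instance] HomVanish.hasRpush'

/-- the unit `C ⟶ Rk_* k^* C` is an isomorphism if `C` vanishes on an open `U` with
`U ∪ V = Y` -/
theorem isIso_unit_of_vanishOn (U V : Y.Opens) (hcov : ∀ x : Y, x ∈ U ∨ x ∈ V) (C : DCoh.D Y)
    (hCU : VanishOn C (U : Set Y)) : IsIso ((resAdj V.ι).unit.app C) := by
  let adj := resAdj V.ι
  let RV := DCoh.restrictD V.ι
  let RU := DCoh.restrictD U.ι
  let η := adj.unit.app C
  obtain ⟨D, π, δ, hT⟩ := distinguished_cocone_triangle η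
  have hηV : IsIso (RV.map η) := by
    have h1 : RV.map η ≫ adj.counit.app (RV.obj C) = 𝟙 _ := adj.left_triangle_components C
    have h2 : IsIso (RV.map η ≫ adj.counit.app (RV.obj C)) := by
      rw [h1]
      infer_instance
    exact IsIso.of_isIso_comp_right _ (adj.counit.app (RV.obj C))
  have hDV : VanishOn D (V : Set Y) := by
    rw [← isZero_restrictD_iff_vanishOn]
    exact (Triangle.isZero₃_iff_isIso₁ _ (RV.map_distinguished _ hT)).2 hηV
  have hDU : VanishOn D (U : Set Y) := by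
    rw [← isZero_restrictD_iff_vanishOn]
    have h1 : IsZero (RU.obj C) := (isZero_restrictD_iff_vanishOn U C).2 hCU
    have h2 : IsZero (RU.obj ((DCoh.Rpush V.ι).obj (RV.obj C))) := by
      apply Groth.Agent.Lib.Helper5.RpushOpen.isZero_restrictD_rpush V.ι U (RV.obj C)
      intro k x hx
      exact ((vanishOn_restrictD_iff V.ι C _).2
        (hCU.mono (by rintro _ ⟨y, hy, rfl⟩; exact hy))) x hx k
    have h3 : IsIso (RU.map η) := isIso_of_isZero' h1 h2 _
    exact (Triangle.isZero₃_iff_isIso₁ _ (RU.map_distinguished _ hT)).2 h3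
  have hD0 : IsZero D := by
    apply isZero_of_vanishOn_univ
    intro x _ n
    rcases hcov x with hx | hx
    · exact hDU x hx n
    · exact hDV x hx n
  exact (Triangle.isZero₃_iff_isIso₁ _ hT).1 hD0

/-- preimages of compact opens under the inclusion of an open -/
theorem isCompact_preimage_ι (V O : Y.Opens) (hO : IsCompact ((O ⊓ V : Y.Opens) : Set Y)) :
    IsCompact ((V.ι ⁻¹ᵁ O : (V : Scheme.{u}).Opens) : Set ↥(V : Scheme.{u})) := by
  rw [V.ι.isOpenEmbedding.isInducing.isCompact_iff]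
  have : (fun x => V.ι.base x) '' ((V.ι ⁻¹ᵁ O : (V : Scheme.{u}).Opens) :
      Set ↥(V : Scheme.{u})) = ((O ⊓ V : Y.Opens) : Set Y) := by
    ext y
    constructor
    · rintro ⟨x, hx, rfl⟩
      exact ⟨hx, x.2⟩
    · rintro ⟨hyU, hyV⟩
      exact ⟨⟨y, hyV⟩, hyU, rfl⟩
  rw [this]
  exact hO

/-- **Thomason's extension of maps with supports** for `Y = U ∪ V`, `V` affine: a map
`R|_U ⟶ E|_U` from a perfect complex extends to `Y` after replacing `R` by a perfect complex
which agrees with it over `U` -/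
theorem thomason_extension_mv [QuasiSeparatedSpace Y] (U V : Y.Opens)
    (hcov : ∀ x : Y, x ∈ U ∨ x ∈ V) (hU : IsCompact (U : Set Y)) (hV : IsAffineOpen V)
    (W : Y.Opens) (R E : DCoh.D Y) (hR : DCoh.IsPerfect R) (hE : DCoh.IsQCohD E)
    (hRW : VanishOn R (W : Set Y))
    (α : (DCoh.restrictD U.ι).obj R ⟶ (DCoh.restrictD U.ι).obj E) :
    ∃ (R' : DCoh.D Y) (β : R' ⟶ R) (γ : R' ⟶ E), DCoh.IsPerfect R' ∧
      VanishOn R' (W : Set Y) ∧ IsIso ((DCoh.restrictD U.ι).map β) ∧
      (DCoh.restrictD U.ι).map β ≫ α = (DCoh.restrictD U.ι).map γ := by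
  haveI : IsAffine (V : Scheme.{u}) := hV
  haveI : CompactSpace ↥(U : Scheme.{u}) := isCompact_iff_compactSpace.mp hU
  let adjU := resAdj U.ι
  let adjV := resAdj V.ι
  let RU := DCoh.restrictD U.ι
  let RV := DCoh.restrictD V.ι
  let η : E ⟶ (DCoh.Rpush U.ι).obj (RU.obj E) := adjU.unit.app E
  obtain ⟨C, π, δ, hT⟩ := distinguished_cocone_triangle η
  have hC : DCoh.IsQCohD C := isQCohD_of_triangle_right _ hT hE
    (isQCohD_rpush U.ι _ (isQCohD_restrictJ U.ι E hE))
  have hηU : IsIso (RU.map η) := by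
    have h1 : RU.map η ≫ adjU.counit.app (RU.obj E) = 𝟙 _ := adjU.left_triangle_components E
    have h2 : IsIso (RU.map η ≫ adjU.counit.app (RU.obj E)) := by
      rw [h1]
      infer_instance
    exact IsIso.of_isIso_comp_right _ (adjU.counit.app (RU.obj E))
  have hCU : VanishOn C (U : Set Y) := by
    rw [← isZero_restrictD_iff_vanishOn]
    exact (Triangle.isZero₃_iff_isIso₁ _ (RU.map_distinguished _ hT)).2 hηU
  let α' : R ⟶ (DCoh.Rpush U.ι).obj (RU.obj E) := adjU.homEquiv R _ α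
  let ψ : R ⟶ C := α' ≫ π
  -- the situation on the affine open `V`
  let SU : (V : Scheme.{u}).Opens := V.ι ⁻¹ᵁ U
  let ZV : (V : Scheme.{u}).Opens := V.ι ⁻¹ᵁ W
  have hSU : IsCompact (SU : Set ↥(V : Scheme.{u})) :=
    isCompact_preimage_ι V U
      (QuasiSeparatedSpace.inter_isCompact _ _ U.isOpen hU V.isOpen hV.isCompact)
  have hCV : DCoh.IsQCohD (RV.obj C) := isQCohD_restrictJ V.ι C hC
  have hCSU : VanishOn (RV.obj C) (SU : Set ↥(V : Scheme.{u})) := by
    rw [vanishOn_restrictD_iff]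
    refine hCU.mono ?_
    rintro _ ⟨y, hy, rfl⟩
    exact hy
  have hRV : DCoh.IsPerfect (RV.obj R) := isPerfect_restrictJ V.ι R hR
  have hRZV : VanishOn (RV.obj R) (ZV : Set ↥(V : Scheme.{u})) := by
    rw [vanishOn_restrictD_iff]
    refine hRW.mono ?_
    rintro _ ⟨y, hy, rfl⟩
    exact hy
  obtain ⟨E₁, N, β₁, ι₁, δ₁, hT₁, hE₁, hN, hNSU, hE₁ZV, hβ₁⟩ :=
    exists_fibre_affine_supp SU hSU ZV (RV.obj R) (RV.obj C) hRV hCV hCSU hRZV (RV.map ψ)
  have hNZV : VanishOn N (ZV : Set ↥(V : Scheme.{u})) :=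
    vanishOn_obj₂ ZV _ (rot_of_distTriang _ hT₁) hRZV (VanishOn.shift ZV hE₁ZV 1)
  -- push `N` forward to `Y`
  let N' := (DCoh.Rpush V.ι).obj N
  let εN : RV.obj N' ≅ N := asIso (adjV.counit.app N)
  have hN'U : IsZero (RU.obj N') :=
    Groth.Agent.Lib.Helper5.RpushOpen.isZero_restrictD_rpush V.ι U N (fun k x hx => hNSU x hx k)
  have hN'W : IsZero ((DCoh.restrictD W.ι).obj N') :=
    Groth.Agent.Lib.Helper5.RpushOpen.isZero_restrictD_rpush V.ι W N (fun k x hx => hNZV x hx k)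
  have hN' : DCoh.IsPerfect N' := by
    apply isPerfect_of_restrict_cover
    intro x
    rcases hcov x with hx | hx
    · exact ⟨U, hx, isPerfect_of_isZero _ hN'U⟩
    · exact ⟨V, hx, isPerfect_of_iso εN.symm hN⟩
  let ι' : R ⟶ N' := adjV.homEquiv R N ι₁
  obtain ⟨R', β, δ', hT'⟩ := distinguished_cocone_triangle₁ ι'
  have hR' : DCoh.IsPerfect R' := (two_of_three _ hT').2.2 hR hN'
  have hR'W : VanishOn R' (W : Set Y) := by
    have h1 : VanishOn (N'⟦(-1 : ℤ)⟧) (W : Set Y) :=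
      VanishOn.shift W ((isZero_restrictD_iff_vanishOn W N').1 hN'W) (-1)
    exact vanishOn_obj₂ W _ (inv_rot_of_distTriang _ hT') h1 hRW
  have hβU : IsIso (RU.map β) :=
    (Triangle.isZero₃_iff_isIso₁ _ (RU.map_distinguished _ hT')).1 hN'U
  have hψ0 : β ≫ ψ = 0 := by
    let ηC := adjV.unit.app C
    haveI hηC : IsIso ηC := isIso_unit_of_vanishOn U V hcov C hCU
    have h0 : β ≫ ι' = 0 := comp_distTriang_mor_zero₁₂ _ hT'
    have h2 : ι₁ = RV.map ι' ≫ adjV.counit.app N := by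
      have h3 : (adjV.homEquiv R N).symm ι' = ι₁ := by simp [ι']
      rw [← h3, Adjunction.homEquiv_counit]
    have h1 : RV.map β ≫ ι₁ = 0 := by
      rw [h2, ← Category.assoc, ← Functor.map_comp, h0, Functor.map_zero, zero_comp]
    obtain ⟨θ, hθ⟩ : ∃ θ : RV.obj R' ⟶ E₁, RV.map β = θ ≫ β₁ :=
      Triangle.coyoneda_exact₂ _ hT₁ _ h1
    have h3 : RV.map (β ≫ ψ) = 0 := by
      rw [Functor.map_comp, hθ, Category.assoc, hβ₁, comp_zero]
    have h4 : (β ≫ ψ) ≫ ηC = 0 := by
      haveI := Groth.Agent.Lib.Helper5.MV.additive_rpush V.ι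
      have h5 := adjV.unit.naturality (β ≫ ψ)
      simp only [Functor.id_obj, Functor.id_map, Functor.comp_obj, Functor.comp_map] at h5
      rw [h5, h3, Functor.map_zero, comp_zero]
    exact (cancel_mono ηC).1 (h4.trans zero_comp.symm)
  have h0 : (β ≫ α') ≫ π = 0 := by rw [Category.assoc]; exact hψ0
  obtain ⟨γ, hγ⟩ : ∃ γ : R' ⟶ E, β ≫ α' = γ ≫ η := Triangle.coyoneda_exact₂ _ hT _ h0
  refine ⟨R', β, γ, hR', hR'W, hβU, ?_⟩
  apply (adjU.homEquiv R' _).injective
  rw [Adjunction.homEquiv_naturality_left]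
  have h3 : adjU.homEquiv R' _ (RU.map γ) = γ ≫ η := by
    have := Adjunction.homEquiv_naturality_left adjU γ (𝟙 (RU.obj E))
    rw [Category.comp_id] at this
    rw [this, Adjunction.homEquiv_id]
  rw [h3]
  exact hγ

end Groth.Agent.Lib.Helper5.Approx
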