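import Mathlib
import Groth.Agent.Lib.Helper5.Approx.ApproxOn
import Groth.Agent.Lib.Helper5.BvdB.ShriekRes

/-!
# Approximation by perfect complexes with supports: extension by zero (helper5)
-/
set_option autoImplicit false
set_option linter.unusedSectionVars false
set_option linter.unusedVariables false
universe u
open CategoryTheory CategoryTheory.Limits AlgebraicGeometry Pretriangulated TopologicalSpace
open scoped ZeroObject
attribute [local instance] HasDerivedCategory.standard

namespace Groth.Agent.Lib.Helper5.Approx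

open Groth.Agent.Lib.Helper5 Groth.Agent.Lib.Helper5.QC
  Groth.Agent.Lib.Helper5.TildePC Groth.Agent.Lib.Helper5.PerfTri
  Groth.Agent.Lib.Helper5.CountHom Groth.Agent.Lib.Helper5.HomVanish
  Groth.Agent.Lib.Helper5.BvdB Groth.Agent.Lib.Helper5.RpushSupp
  Groth.Agent.Lib.Helper5.LocalCoh Groth.Agent.Lib.Helper5.PCApprox
  Groth.Agent.Lib.Helper5.PCTri

variable {Y : Scheme.{u}}

attribute [local instance] preservesFiniteLimits_extZero
attribute [local instance] HomVanish.hasRpush'

/-- **extension by zero of approximations**: if the support of the problem lies in the open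
`V`, an approximation of `E|_V` gives one of `E` -/
theorem approxOn_of_restrict (V W' : Y.Opens) (hcov : ∀ x : Y, x ∈ V ∨ x ∈ W') (m : ℤ)
    (E : DCoh.D Y) (hE : VanishGE m E (W' : Set Y))
    (h : ApproxOn ((V.ι ⁻¹ᵁ W' : (V : Scheme.{u}).Opens) : Set ↥(V : Scheme.{u})) m
      ((DCoh.restrictD V.ι).obj E)) :
    ApproxOn (W' : Set Y) m E := by
  obtain ⟨P_V, C_V, a_V, π_V, δ_V, hT_V, hP_V, hP_VW, hC_V⟩ := h.exists_P
  let sadj := shriekAdj V
  let P := (CxOX.extZeroD V.ι).obj P_V
  let α : P ⟶ E := (sadj.homEquiv P_V E).symm a_V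
  let u : P_V ≅ (DCoh.restrictD V.ι).obj P := asIso (sadj.unit.app P_V)
  have hPW : IsZero ((DCoh.restrictD W'.ι).obj P) := isZero_restrictD_extZeroD W' V P_V hP_VW
  have hP : DCoh.IsPerfect P := by
    apply isPerfect_of_restrict_cover
    intro x
    rcases hcov x with hx | hx
    · exact ⟨V, hx, isPerfect_of_iso u hP_V⟩
    · exact ⟨W', hx, isPerfect_of_isZero _ hPW⟩
  have hPW' : VanishOn P (W' : Set Y) := (isZero_restrictD_iff_vanishOn W' P).1 hPW
  obtain ⟨C, π, δ, hT⟩ := distinguished_cocone_triangle α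
  refine ApproxOn.of_P α π δ hT hP hPW' ?_
  rw [isLE_iff_vanishGE_univ]
  have hCV : VanishGE m C (V : Set Y) := by
    rw [vanishGE_iff_isLE]
    have hT' := (DCoh.restrictD V.ι).map_distinguished _ hT
    have hα : (DCoh.restrictD V.ι).map α = u.inv ≫ a_V := by
      have h1 : sadj.homEquiv P_V E α = a_V := by simp [α]
      rw [Adjunction.homEquiv_unit] at h1
      rw [← h1]
      simp [u]
    have happ : IsApprox m ((DCoh.restrictD V.ι).map α) := by
      rw [hα]
      exact (isApprox_of_isLE_cone _ hT_V hC_V).iso_comp u.symm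
    rw [DerivedCategory.isLE_iff]
    intro i hi
    exact Groth.Agent.Lib.Helper5.ClPush.isZero_HD_cone _ hT' m happ i (by omega)
  have hCW : VanishGE m C (W' : Set Y) := vanishGE_obj₃ W' m _ hT hPW' hE
  intro x _ n hn
  rcases hcov x with hx | hx
  · exact hCV x hx n hn
  · exact hCW x hx n hn

end Groth.Agent.Lib.Helper5.Approx
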