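import Mathlib
import Groth.Agent.Lib.Helper5.Approx.AffMain
import Groth.Agent.Lib.Helper5.Approx.ExtZero
import Groth.Agent.Lib.Helper5.Approx.ExtMapMV

/-!
# Approximation by perfect complexes with supports: the Mayer–Vietoris step (helper5)
-/
set_option autoImplicit false
set_option linter.unusedSectionVars false
set_option linter.unusedVariables false
universe u
open CategoryTheory CategoryTheory.Limits AlgebraicGeometry Pretriangulated TopologicalSpace
open scoped ZeroObject
attribute [local instance] HasDerivedCategory.standard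

namespace Groth.Agent.Lib.Helper5.Approx

open Groth.Agent.Lib.Helper5 Groth.Agent.Lib.Helper5.QC
  Groth.Agent.Lib.Helper5.TildePC Groth.Agent.Lib.Helper5.PerfTri
  Groth.Agent.Lib.Helper5.CountHom Groth.Agent.Lib.Helper5.HomVanish
  Groth.Agent.Lib.Helper5.BvdB Groth.Agent.Lib.Helper5.RpushSupp
  Groth.Agent.Lib.Helper5.LocalCoh Groth.Agent.Lib.Helper5.PCApprox
  Groth.Agent.Lib.Helper5.PCTri Groth.Agent.Lib.Helper5.IsoSq
  Groth.Agent.Lib.Helper5.LpullLib Groth.Agent.Lib.Helper5.PCBiprod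
open DerivedCategory.HomologySequence

variable {Y : Scheme.{u}}

attribute [local instance] preservesFiniteLimits_extZero
attribute [local instance] HomVanish.hasRpush'

/-- the cone of a map between objects which are `≤ t`, surjective on `H^t`, is `≤ t - 1` -/
theorem isLE_cone_of_epi (T : Triangle (DCoh.D Y)) (hT : T ∈ distTriang _) (t : ℤ)
    (h₁ : T.obj₁.IsLE t) (h₂ : T.obj₂.IsLE t)
    (hepi : Epi ((DerivedCategory.homologyFunctor Y.Modules t).map T.mor₁)) :
    T.obj₃.IsLE (t - 1) := by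
  have h3 : T.obj₃.IsLE t := by
    have hrot := rot_of_distTriang _ hT
    have h4 : DerivedCategory.TStructure.t.IsLE T.rotate.obj₃ t := by
      haveI : (T.obj₁⟦(1 : ℤ)⟧).IsLE (t - 1) :=
        DerivedCategory.TStructure.t.isLE_shift T.obj₁ t 1 (t - 1) (by omega)
      exact DerivedCategory.TStructure.t.isLE_of_le (T.obj₁⟦(1 : ℤ)⟧) (t - 1) t (by omega)
    exact DerivedCategory.TStructure.t.isLE₂ _ hrot t h₂ h4
  rw [DerivedCategory.isLE_iff]
  intro i hi
  rcases eq_or_lt_of_le (show t ≤ i by omega) with rfl | hi'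
  · have h0 : (DerivedCategory.homologyFunctor Y.Modules t).map T.mor₂ = 0 :=
      (epi_homologyMap_mor₁_iff T hT t).1 hepi
    have hδ : δ T t (t + 1) rfl = 0 :=
      (DerivedCategory.isZero_of_isLE T.obj₁ t (t + 1) (by omega)).eq_of_tgt _ _
    haveI : Epi ((DerivedCategory.homologyFunctor Y.Modules t).map T.mor₂) :=
      (epi_homologyMap_mor₂_iff T hT t (t + 1) rfl).2 hδ
    exact IsZero.of_epi_eq_zero _ h0
  · exact DerivedCategory.isZero_of_isLE T.obj₃ t i hi'

theorem isLE_biprod (A B : DCoh.D Y) (t : ℤ) (hA : A.IsLE t) (hB : B.IsLE t) :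
    (A ⊞ B).IsLE t :=
  DerivedCategory.TStructure.t.isLE₂ _ (binaryBiproductTriangle_distinguished A B) t hA hB

/-- **the Mayer–Vietoris step for approximation by perfect complexes with supports** -/
theorem approxHolds_mv [QuasiSeparatedSpace Y] (U V : Y.Opens) (hUV : U ⊔ V = ⊤)
    (hU : IsCompact (U : Set Y)) (hV : IsAffineOpen V) (W : Y.Opens)
    (hW : IsCompact (W : Set Y))
    (hAU : ApproxHolds (U : Scheme.{u})
      ((U.ι ⁻¹ᵁ W : (U : Scheme.{u}).Opens) : Set ↥(U : Scheme.{u}))) :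
    ApproxHolds Y (W : Set Y) := by
  haveI : IsAffine (V : Scheme.{u}) := hV
  haveI : CompactSpace ↥(U : Scheme.{u}) := isCompact_iff_compactSpace.mp hU
  have hcov : ∀ x : Y, x ∈ U ∨ x ∈ V := by
    intro x
    have : x ∈ (U ⊔ V : Y.Opens) := by rw [hUV]; trivial
    exact this
  have hUVc : IsCompact ((U ⊓ V : Y.Opens) : Set Y) :=
    QuasiSeparatedSpace.inter_isCompact _ _ U.isOpen hU V.isOpen hV.isCompact
  have hWVc : IsCompact ((W ⊓ V : Y.Opens) : Set Y) :=
    QuasiSeparatedSpace.inter_isCompact _ _ W.isOpen hW V.isOpen hV.isCompact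
  haveI : CompactSpace ↥((U ⊓ V : Y.Opens) : Scheme.{u}) := isCompact_iff_compactSpace.mp hUVc
  let jU := Y.homOfLE (inf_le_left : U ⊓ V ≤ U)
  let jV := Y.homOfLE (inf_le_right : U ⊓ V ≤ V)
  have hjU : jU ≫ U.ι = (U ⊓ V).ι := Y.homOfLE_ι _
  have hjV : jV ≫ V.ι = (U ⊓ V).ι := Y.homOfLE_ι _
  let ZU : (U : Scheme.{u}).Opens := U.ι ⁻¹ᵁ W
  let ZV : (V : Scheme.{u}).Opens := V.ι ⁻¹ᵁ W
  let SU : (V : Scheme.{u}).Opens := V.ι ⁻¹ᵁ U
  let S : (V : Scheme.{u}).Opens := SU ⊔ ZV
  have hZV : IsCompact (ZV : Set ↥(V : Scheme.{u})) := isCompact_preimage_ι V W hWVc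
  have hSU : IsCompact (SU : Set ↥(V : Scheme.{u})) := isCompact_preimage_ι V U hUVc
  have hS : IsCompact (S : Set ↥(V : Scheme.{u})) := by
    have h1 : (S : Set ↥(V : Scheme.{u})) = (SU : Set ↥(V : Scheme.{u})) ∪ (ZV : Set _) :=
      Opens.coe_sup SU ZV
    rw [h1]
    exact hSU.union hZV
  obtain ⟨rV, hrV, hV'⟩ := approxHolds_affine (V : Scheme.{u}) S hS
  obtain ⟨rU, hrU, hU'⟩ := hAU
  let RU := DCoh.restrictD U.ι
  let RV := DCoh.restrictD V.ι
  -- vanishing on `W` can be checked on `U` and on `V`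
  have hvan : ∀ M : DCoh.D Y, VanishOn (RU.obj M) (ZU : Set ↥(U : Scheme.{u})) →
      VanishOn (RV.obj M) (ZV : Set ↥(V : Scheme.{u})) → VanishOn M (W : Set Y) := by
    intro M h1 h2 x hxZ n
    rcases hcov x with hx | hx
    · exact ((vanishOn_restrictD_iff U.ι M _).1 h1) x ⟨⟨x, hx⟩, hxZ, rfl⟩ n
    · exact ((vanishOn_restrictD_iff V.ι M _).1 h2) x ⟨⟨x, hx⟩, hxZ, rfl⟩ n
  refine ⟨rU + rV, by omega, ?_⟩
  intro m
  have key : ∀ (n : ℕ) (E : DCoh.D Y), DCoh.IsQCohD E →
      DCoh.IsPseudoCoherentD (m - (rU + rV)) E → VanishGE (m - (rU + rV)) E (W : Set Y) →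
      VanishGE (m - rV + n) E (U : Set Y) → ApproxOn (W : Set Y) m E := by
    intro n
    induction n with
    | zero =>
      intro E hE hpc hv hvU
      have hvU' : VanishGE (m - rV) E (U : Set Y) := hvU.mono (by simp) subset_rfl
      let W' : Y.Opens := U ⊔ W
      have hW'set : (W' : Set Y) = (U : Set Y) ∪ (W : Set Y) := Opens.coe_sup U W
      have hvW' : VanishGE (m - rV) E (W' : Set Y) := by
        rw [hW'set]
        exact hvU'.union (hv.mono (by omega) subset_rfl)
      have h1 : ApproxOn (S : Set ↥(V : Scheme.{u})) m (RV.obj E) := by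
        apply hV' m _ (isQCohD_restrictJ V.ι E hE)
          (isPC_mono (by omega) (isPC_restrictD V.ι hpc))
        rw [vanishGE_restrictD_iff]
        refine hvW'.mono le_rfl ?_
        rintro _ ⟨y, hy, rfl⟩
        rw [hW'set]
        rcases hy with hy | hy
        · exact Or.inl hy
        · exact Or.inr hy
      have h2 : ApproxOn (W' : Set Y) m E := by
        apply approxOn_of_restrict V W' (fun x => (hcov x).elim (fun h => Or.inr (Or.inl h)) Or.inl)
          m E (hvW'.mono (by omega) subset_rfl)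
        refine h1.mono ?_
        intro y hy
        have hy' : V.ι.base y ∈ (W' : Set Y) := hy
        rw [hW'set] at hy'
        rcases hy' with hy' | hy'
        · exact Or.inl hy'
        · exact Or.inr hy'
      exact h2.mono (fun x hx => Or.inr hx)
    | succ n ih =>
      intro E hE hpc hv hvU
      let t : ℤ := m - rV + n
      have hvU' : VanishGE (t + 1) E (U : Set Y) :=
        hvU.mono (by simp only [t]; push_cast; omega) subset_rfl
      have hEU_le : (RU.obj E).IsLE t := by
        have h1 := (vanishGE_iff_isLE U (t + 1) E).1 hvU'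
        have h2 : t + 1 - 1 = t := by omega
        rw [h2] at h1
        exact h1
      -- approximate `E|_U` at level `t`
      have hAU1 : ApproxOn (ZU : Set ↥(U : Scheme.{u})) t (RU.obj E) := by
        apply hU' t (RU.obj E) (isQCohD_restrictJ U.ι E hE)
          (isPC_mono (by simp only [t]; omega) (isPC_restrictD U.ι hpc))
        rw [vanishGE_restrictD_iff]
        refine hv.mono (by simp only [t]; omega) ?_
        rintro _ ⟨y, hy, rfl⟩
        exact hy
      obtain ⟨P_U, C_U, a_U, π_U, δ_U, hT_U, hP_U, hP_UZ, hC_U⟩ := hAU1.exists_P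
      have hP_U_le : P_U.IsLE t := by
        have h1 := inv_rot_of_distTriang _ hT_U
        have h2 : DerivedCategory.TStructure.t.IsLE (Triangle.mk a_U π_U δ_U).invRotate.obj₁ t :=
          DerivedCategory.TStructure.t.isLE_shift C_U (t - 1) (-1) t (by omega)
        exact DerivedCategory.TStructure.t.isLE₂ _ h1 t h2 hEU_le
      -- extend `P_U ⊕ P_U[1]` to `Y`
      let GU := DCoh.restrictD jU
      let F := GU.obj P_U
      have hF : DCoh.IsPerfect F := isPerfect_restrictJ jU P_U hP_U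
      have hFZ : VanishOn F ((jV ⁻¹ᵁ ZV : ((U ⊓ V : Y.Opens) : Scheme.{u}).Opens) :
          Set ↥((U ⊓ V : Y.Opens) : Scheme.{u})) := by
        rw [vanishOn_restrictD_iff]
        refine VanishOn.mono hP_UZ ?_
        rintro _ ⟨x, hx, rfl⟩
        show U.ι.base (jU.base x) ∈ W
        have h1 : U.ι.base (jU.base x) = V.ι.base (jV.base x) := by
          rw [← Scheme.Hom.comp_apply, ← Scheme.Hom.comp_apply, hjU, hjV]
        rw [h1]
        exact hx
      obtain ⟨P₂, hP₂, hP₂Z, ⟨e₂⟩⟩ := extend_sum_shift_supp_affine_imm jV ZV hZV F hF hFZ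
      let A := P_U ⊞ P_U⟦(1 : ℤ)⟧
      have hA : DCoh.IsPerfect A := isPerfect_biprod _ _ hP_U (isPerfect_shift hP_U 1)
      have hAZ : VanishOn A (ZU : Set ↥(U : Scheme.{u})) :=
        VanishOn.biprod ZU hP_UZ (VanishOn.shift ZU hP_UZ 1)
      have hA_le : A.IsLE t := by
        apply isLE_biprod _ _ t hP_U_le
        haveI := hP_U_le
        haveI : (P_U⟦(1 : ℤ)⟧).IsLE (t - 1) :=
          DerivedCategory.TStructure.t.isLE_shift P_U t 1 (t - 1) (by omega)
        exact DerivedCategory.TStructure.t.isLE_of_le (P_U⟦(1 : ℤ)⟧) (t - 1) t (by omega)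
      haveI : PreservesBinaryBiproducts GU := preservesBinaryBiproducts_of_preservesBiproducts GU
      let c : GU.obj A ≅ (DCoh.restrictD jV).obj P₂ :=
        GU.mapBiprod P_U (P_U⟦(1 : ℤ)⟧) ≪≫
          biprod.mapIso (Iso.refl F) ((GU.commShiftIso (1 : ℤ)).app P_U) ≪≫ e₂.symm
      obtain ⟨Q', ⟨a₁⟩, ⟨a₂⟩⟩ := Groth.Agent.Lib.Helper5.MV.exists_glue' U V A P₂ c
      have hQ' : DCoh.IsPerfect Q' := by
        apply isPerfect_of_restrict_cover
        intro x
        rcases hcov x with hx | hx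
        · exact ⟨U, hx, isPerfect_of_iso a₁.symm hA⟩
        · exact ⟨V, hx, isPerfect_of_iso a₂.symm hP₂⟩
      have hQ'Z : VanishOn Q' (W : Set Y) :=
        hvan Q' (VanishOn.of_iso a₁.symm hAZ) (VanishOn.of_iso a₂.symm hP₂Z)
      -- extend the map
      let αU : RU.obj Q' ⟶ RU.obj E := a₁.hom ≫ biprod.fst ≫ a_U
      obtain ⟨R', β, γ, hR', hR'W, hβU, hβγ⟩ :=
        thomason_extension_mv U V hcov hU hV W Q' E hQ' hE hQ'Z αU
      obtain ⟨E', q, d, hTγ⟩ := distinguished_cocone_triangle γ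
      have hE'q : DCoh.IsQCohD E' :=
        isQCohD_of_triangle_right _ hTγ (isQCohD_of_isPerfect R' hR') hE
      have hE'pc : DCoh.IsPseudoCoherentD (m - (rU + rV)) E' :=
        isPC_obj₃ _ hTγ _ (isPseudoCoherentD_of_isPerfect R' hR' _) hpc
      have hE'v : VanishGE (m - (rU + rV)) E' (W : Set Y) :=
        vanishGE_obj₃ W _ _ hTγ hR'W hv
      have hE'U : VanishGE (m - rV + n) E' (U : Set Y) := by
        rw [vanishGE_iff_isLE]
        have hTU := RU.map_distinguished _ hTγ
        haveI := hβU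
        let eR : RU.obj R' ≅ A := asIso (RU.map β) ≪≫ a₁
        have hR'U_le : (RU.obj R').IsLE t := DerivedCategory.TStructure.t.isLE_of_iso eR.symm t
        have hγ' : RU.map γ = eR.hom ≫ biprod.fst ≫ a_U := by
          rw [← hβγ]
          show RU.map β ≫ a₁.hom ≫ biprod.fst ≫ a_U = (RU.map β ≫ a₁.hom) ≫ biprod.fst ≫ a_U
          rw [Category.assoc]
        have hepi : Epi ((DerivedCategory.homologyFunctor (U : Scheme.{u}).Modules t).map
            (RU.map γ)) := by
          rw [hγ', Functor.map_comp, Functor.map_comp]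
          haveI : IsSplitEpi (biprod.fst : A ⟶ P_U) := IsSplitEpi.mk' ⟨biprod.inl, biprod.inl_fst⟩
          haveI : Epi ((DerivedCategory.homologyFunctor (U : Scheme.{u}).Modules t).map a_U) :=
            (isApprox_of_isLE_cone _ hT_U hC_U).2
          infer_instance
        exact isLE_cone_of_epi _ hTU t hR'U_le hEU_le hepi
      have hrec := ih E' hE'q hE'pc hE'v hE'U
      exact ApproxOn.compose q d _ (rot_of_distTriang _ hTγ) (isPerfect_shift hR' 1)
        (VanishOn.shift W hR'W 1) hrec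
  intro E hE hpc hv
  obtain ⟨b, hb⟩ := exists_isLE_of_isPC (RU.obj E) _ (isPC_restrictD U.ι hpc)
  obtain ⟨n, hn⟩ : ∃ n : ℕ, b + 1 ≤ m - rV + n := ⟨(b + 1 - (m - rV)).toNat, by omega⟩
  refine key n E hE hpc hv ?_
  rw [vanishGE_iff_isLE]
  exact DerivedCategory.TStructure.t.isLE_of_le (RU.obj E) b _ (by omega)

end Groth.Agent.Lib.Helper5.Approx
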