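import Mathlib
import Groth.Agent.Lib.Helper5.Approx.MVStep

/-!
# Approximation by perfect complexes with supports on quasi-compact quasi-separated schemes
(helper5)
-/
set_option autoImplicit false
set_option linter.unusedSectionVars false
set_option linter.unusedVariables false
universe u
open CategoryTheory CategoryTheory.Limits AlgebraicGeometry Pretriangulated TopologicalSpace
open scoped ZeroObject
attribute [local instance] HasDerivedCategory.standard

namespace Groth.Agent.Lib.Helper5.Approx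

open Groth.Agent.Lib.Helper5 Groth.Agent.Lib.Helper5.QC
  Groth.Agent.Lib.Helper5.TildePC Groth.Agent.Lib.Helper5.PerfTri
  Groth.Agent.Lib.Helper5.CountHom Groth.Agent.Lib.Helper5.HomVanish
  Groth.Agent.Lib.Helper5.BvdB Groth.Agent.Lib.Helper5.RpushSupp
  Groth.Agent.Lib.Helper5.LocalCoh Groth.Agent.Lib.Helper5.PCApprox
  Groth.Agent.Lib.Helper5.PCTri Groth.Agent.Lib.Helper5.IsoSq

variable (X : Scheme.{u})

/-- approximation holds on every quasi-compact open of a quasi-separated scheme -/
theorem approxHolds_opens [QuasiSeparatedSpace X] (W : X.Opens)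
    (hW : IsCompact (W : Set X)) (T : X.Opens) (hT : IsCompact (T : Set X)) :
    ApproxHolds (T : Scheme.{u})
      ((T.ι ⁻¹ᵁ W : (T : Scheme.{u}).Opens) : Set ↥(T : Scheme.{u})) := by
  refine compact_open_induction_on
    (P := fun T : X.Opens => ApproxHolds (T : Scheme.{u})
      ((T.ι ⁻¹ᵁ W : (T : Scheme.{u}).Opens) : Set ↥(T : Scheme.{u}))) T hT ?_ ?_
  · haveI : IsEmpty ↥((⊥ : X.Opens) : Scheme.{u}) := by
      constructor
      rintro ⟨x, hx⟩
      exact hx
    refine ⟨0, le_rfl, fun m E _ _ _ => ?_⟩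
    apply approxOn_of_isLE
    rw [isLE_iff_vanishGE_univ]
    exact fun x => isEmptyElim x
  · rintro S hS U hAS
    let T' : X.Opens := S ⊔ U.1
    let U' : (T' : Scheme.{u}).Opens := T'.ι ⁻¹ᵁ S
    let V' : (T' : Scheme.{u}).Opens := T'.ι ⁻¹ᵁ U.1
    let W' : (T' : Scheme.{u}).Opens := T'.ι ⁻¹ᵁ W
    haveI : QuasiSeparatedSpace ↥(T' : Scheme.{u}) :=
      QuasiSeparatedSpace.of_isOpenEmbedding T'.ι.isOpenEmbedding
    have hUV : U' ⊔ V' = ⊤ := by
      ext x
      constructor
      · intro _
        trivial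
      · intro _
        have hx : x.1 ∈ S ⊔ U.1 := x.2
        exact hx
    have hT' : IsCompact (T' : Set X) := by
      have h1 : (T' : Set X) = (S : Set X) ∪ (U.1 : Set X) := Opens.coe_sup S U.1
      rw [h1]
      exact hS.union U.2.isCompact
    have hU' : IsCompact (U' : Set ↥(T' : Scheme.{u})) := by
      apply isCompact_preimage_ι T' S
      have h1 : S ⊓ T' = S := inf_eq_left.2 le_sup_left
      rw [h1]
      exact hS
    have hW' : IsCompact (W' : Set ↥(T' : Scheme.{u})) :=
      isCompact_preimage_ι T' W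
        (QuasiSeparatedSpace.inter_isCompact _ _ W.isOpen hW T'.isOpen hT')
    have hV' : IsAffineOpen V' := by
      apply U.2.preimage_of_isOpenImmersion T'.ι
      rw [Scheme.Opens.opensRange_ι]
      exact le_sup_right
    let φ : (U' : Scheme.{u}) ≅ (S : Scheme.{u}) := Scheme.Opens.isoOfLE le_sup_left
    have hφ : φ.hom ≫ S.ι = U'.ι ≫ T'.ι := Scheme.Opens.isoOfLE_hom_ι le_sup_left
    have hA := ApproxHolds.of_iso φ _ hAS
    have hset : (fun y => φ.hom.base y) ⁻¹'
        ((S.ι ⁻¹ᵁ W : (S : Scheme.{u}).Opens) : Set ↥(S : Scheme.{u})) =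
        ((U'.ι ⁻¹ᵁ W' : (U' : Scheme.{u}).Opens) : Set ↥(U' : Scheme.{u})) := by
      ext x
      show S.ι.base (φ.hom.base x) ∈ W ↔ T'.ι.base (U'.ι.base x) ∈ W
      rw [← Scheme.Hom.comp_apply, ← Scheme.Hom.comp_apply, hφ]
    rw [hset] at hA
    exact approxHolds_mv U' V' hUV hU' hV' W' hW' hA

/-- **approximation by perfect complexes with supports** on a quasi-compact quasi-separated
scheme -/
theorem approxHolds [CompactSpace X] [QuasiSeparatedSpace X] (W : X.Opens)
    (hW : IsCompact (W : Set X)) : ApproxHolds X (W : Set X) := by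
  have h := approxHolds_opens X W hW ⊤ isCompact_univ
  have hA := ApproxHolds.of_iso X.topIso.symm _ h
  have hset : (fun y => X.topIso.symm.hom.base y) ⁻¹'
      (((⊤ : X.Opens).ι ⁻¹ᵁ W : ((⊤ : X.Opens) : Scheme.{u}).Opens) :
        Set ↥((⊤ : X.Opens) : Scheme.{u})) = (W : Set X) := by
    ext x
    show (⊤ : X.Opens).ι.base (X.topIso.inv.base x) ∈ W ↔ x ∈ W
    rw [← Scheme.Hom.comp_apply, Scheme.toIso_inv_ι]
    rfl
  rw [hset] at hA
  exact hA

end Groth.Agent.Lib.Helper5.Approx
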