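import Mathlib
import Groth.Agent.Lib.Helper5.Approx.Main

/-!
# Lifting maps from perfect complexes with supports (helper5)

Thomason's lemma: a map `P ⟶ E|_U` from a perfect complex on a quasi-compact open `U`, supported
on `T ∩ U`, extends to a map `R ⟶ E` from a perfect complex supported on `T` after passing to a
complex of which `P` is a direct summand over `U`.
-/
set_option autoImplicit false
set_option linter.unusedSectionVars false
set_option linter.unusedVariables false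
universe u
open CategoryTheory CategoryTheory.Limits AlgebraicGeometry Pretriangulated TopologicalSpace
open scoped ZeroObject
attribute [local instance] HasDerivedCategory.standard

namespace Groth.Agent.Lib.Helper5.Approx

open Groth.Agent.Lib.Helper5 Groth.Agent.Lib.Helper5.QC
  Groth.Agent.Lib.Helper5.TildePC Groth.Agent.Lib.Helper5.PerfTri
  Groth.Agent.Lib.Helper5.CountHom Groth.Agent.Lib.Helper5.HomVanish
  Groth.Agent.Lib.Helper5.BvdB Groth.Agent.Lib.Helper5.RpushSupp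
  Groth.Agent.Lib.Helper5.LocalCoh Groth.Agent.Lib.Helper5.PCApprox
  Groth.Agent.Lib.Helper5.PCTri Groth.Agent.Lib.Helper5.IsoSq

section CompIso

variable {X U U' : Scheme.{u}} (k : U' ⟶ U) (j : U ⟶ X) [IsOpenImmersion k] [IsOpenImmersion j]

/-- restriction along a composite of open immersions, as a natural isomorphism on derived
categories -/
noncomputable def restrictDCompNatIso :
    DCoh.restrictD (k ≫ j) ≅ DCoh.restrictD j ⋙ DCoh.restrictD k :=
  letI : Localization.Lifting DerivedCategory.Q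
      (HomologicalComplex.quasiIso X.Modules (ComplexShape.up ℤ))
      ((Scheme.Modules.restrictFunctor (k ≫ j)).mapHomologicalComplex (ComplexShape.up ℤ) ⋙
        DerivedCategory.Q) (DCoh.restrictD (k ≫ j)) :=
    ⟨(Scheme.Modules.restrictFunctor (k ≫ j)).mapDerivedCategoryFactors⟩
  letI : Localization.Lifting DerivedCategory.Q
      (HomologicalComplex.quasiIso X.Modules (ComplexShape.up ℤ))
      (((Scheme.Modules.restrictFunctor j).mapHomologicalComplex (ComplexShape.up ℤ) ⋙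
        (Scheme.Modules.restrictFunctor k).mapHomologicalComplex (ComplexShape.up ℤ)) ⋙
        DerivedCategory.Q) (DCoh.restrictD j ⋙ DCoh.restrictD k) :=
    ⟨(Functor.associator _ _ _).symm ≪≫
      Functor.isoWhiskerRight ((Scheme.Modules.restrictFunctor j).mapDerivedCategoryFactors) _ ≪≫
      Functor.associator _ _ _ ≪≫
      Functor.isoWhiskerLeft _ ((Scheme.Modules.restrictFunctor k).mapDerivedCategoryFactors) ≪≫
      (Functor.associator _ _ _).symm⟩
  Localization.liftNatIso DerivedCategory.Q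
    (HomologicalComplex.quasiIso X.Modules (ComplexShape.up ℤ))
    ((Scheme.Modules.restrictFunctor (k ≫ j)).mapHomologicalComplex (ComplexShape.up ℤ) ⋙
      DerivedCategory.Q)
    (((Scheme.Modules.restrictFunctor j).mapHomologicalComplex (ComplexShape.up ℤ) ⋙
      (Scheme.Modules.restrictFunctor k).mapHomologicalComplex (ComplexShape.up ℤ)) ⋙
      DerivedCategory.Q) _ _
    (Functor.isoWhiskerRight (Functor.mapHomologicalComplexCompIso
      (Scheme.Modules.restrictFunctorComp k j).symm (ComplexShape.up ℤ)).symm DerivedCategory.Q)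

end CompIso

/-- the lifting property for an open immersion `j : A ⟶ Y` -/
def LiftHolds {A Y : Scheme.{u}} (j : A ⟶ Y) [IsOpenImmersion j] : Prop :=
  ∀ (W : Y.Opens), IsCompact (W : Set Y) → ∀ (E : DCoh.D Y), DCoh.IsQCohD E →
    ∀ (P : DCoh.D A), DCoh.IsPerfect P → VanishOn P ((j ⁻¹ᵁ W : A.Opens) : Set A) →
    ∀ α : P ⟶ (DCoh.restrictD j).obj E,
    ∃ (R : DCoh.D Y) (β : R ⟶ E) (i : P ⟶ (DCoh.restrictD j).obj R)
      (p : (DCoh.restrictD j).obj R ⟶ P), DCoh.IsPerfect R ∧ VanishOn R (W : Set Y) ∧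
      i ≫ p = 𝟙 P ∧ i ≫ (DCoh.restrictD j).map β = α

theorem LiftHolds.of_eq {A Y : Scheme.{u}} {j j' : A ⟶ Y} [IsOpenImmersion j]
    [IsOpenImmersion j'] (h : j = j') (hj : LiftHolds j) : LiftHolds j' := by
  subst h
  exact hj

theorem equiv_lift_aux {C D : Type*} [Category C] [Category D] (Eq : C ≌ D) (P : D) (E : C)
    (α : P ⟶ Eq.functor.obj E) :
    (Eq.counitIso.app P).inv ≫ Eq.functor.map (Eq.inverse.map α ≫ (Eq.unitIso.app E).inv) =
      α := by
  rw [Functor.map_comp]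
  have h1 : Eq.functor.map ((Eq.unitIso.app E).inv) =
      (Eq.counitIso.app (Eq.functor.obj E)).hom := by
    have := Eq.functor_unitIso_comp E
    rw [← cancel_epi (Eq.functor.map (Eq.unitIso.hom.app E)), ← Functor.map_comp]
    simp only [Iso.app_inv, Iso.app_hom, Iso.hom_inv_id_app, CategoryTheory.Functor.map_id]
    exact this.symm
  rw [h1]
  have h2 := Eq.counitIso.hom.naturality α
  simp only [Functor.comp_map, Functor.id_map] at h2
  rw [Iso.app_hom, h2, Iso.app_inv, Iso.inv_hom_id_app_assoc]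

/-- the lifting property for isomorphisms -/
theorem liftHolds_iso {A Y : Scheme.{u}} (φ : A ≅ Y) : LiftHolds φ.hom := by
  intro W hW E hE P hP hPW α
  let Eq := restrictDEquiv φ
  -- `Eq : D Y ≌ D A`, functor `restrictD φ.hom`, inverse `restrictD φ.inv`
  let R : DCoh.D Y := (DCoh.restrictD φ.inv).obj P
  let c : (DCoh.restrictD φ.hom).obj R ≅ P := Eq.counitIso.app P
  let β : R ⟶ E := (DCoh.restrictD φ.inv).map α ≫ (Eq.unitIso.app E).inv
  refine ⟨R, β, c.inv, c.hom, isPerfect_restrictJ φ.inv P hP, ?_, c.inv_hom_id, ?_⟩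
  · rw [vanishOn_restrictD_iff]
    refine hPW.mono ?_
    rintro _ ⟨y, hy, rfl⟩
    show φ.hom.base (φ.inv.base y) ∈ W
    have h1 : φ.hom.base (φ.inv.base y) = y := by
      rw [← Scheme.Hom.comp_apply, φ.inv_hom_id]
      rfl
    rw [h1]
    exact hy
  · exact equiv_lift_aux Eq P E α

/-- composition of lifting properties -/
theorem LiftHolds.comp {A B Y : Scheme.{u}} (k : A ⟶ B) (j : B ⟶ Y) [IsOpenImmersion k]
    [IsOpenImmersion j] (hk : LiftHolds k) (hj : LiftHolds j)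
    (hB : ∀ W : Y.Opens, IsCompact (W : Set Y) → IsCompact ((j ⁻¹ᵁ W : B.Opens) : Set B)) :
    LiftHolds (k ≫ j) := by
  intro W hW E hE P hP hPW α
  let c := restrictDCompNatIso k j
  let WB : B.Opens := j ⁻¹ᵁ W
  have hPW' : VanishOn P ((k ⁻¹ᵁ WB : A.Opens) : Set A) := hPW
  obtain ⟨R₁, β₁, i₁, p₁, hR₁, hR₁W, hip₁, hiβ₁⟩ :=
    hk WB (hB W hW) ((DCoh.restrictD j).obj E) (isQCohD_restrictJ j E hE) P hP hPW'
      (α ≫ c.hom.app E)
  obtain ⟨R, β, i₂, p₂, hR, hRW, hip₂, hiβ₂⟩ := hj W hW E hE R₁ hR₁ hR₁W β₁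
  refine ⟨R, β, i₁ ≫ (DCoh.restrictD k).map i₂ ≫ c.inv.app R,
    c.hom.app R ≫ (DCoh.restrictD k).map p₂ ≫ p₁, hR, hRW, ?_, ?_⟩
  · simp only [Category.assoc, Iso.inv_hom_id_app_assoc]
    rw [← Functor.map_comp_assoc, hip₂, CategoryTheory.Functor.map_id, Category.id_comp, hip₁]
  · have hnat : c.inv.app R ≫ (DCoh.restrictD (k ≫ j)).map β =
        (DCoh.restrictD k).map ((DCoh.restrictD j).map β) ≫ c.inv.app E :=
      (c.inv.naturality β).symm
    simp only [Category.assoc]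
    rw [hnat, ← Functor.map_comp_assoc, hiβ₂, ← Category.assoc, hiβ₁, Category.assoc,
      Iso.hom_inv_id_app, Category.comp_id]


section MV

variable {Y : Scheme.{u}}

/-- **the Mayer–Vietoris case of the lifting property** -/
theorem liftHolds_mv [QuasiSeparatedSpace Y] (U V : Y.Opens) (hUV : U ⊔ V = ⊤)
    (hU : IsCompact (U : Set Y)) (hV : IsAffineOpen V) : LiftHolds U.ι := by
  intro W hW E hE P_U hP_U hP_UZ a_U
  haveI : IsAffine (V : Scheme.{u}) := hV
  haveI : CompactSpace ↥(U : Scheme.{u}) := isCompact_iff_compactSpace.mp hU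
  have hcov : ∀ x : Y, x ∈ U ∨ x ∈ V := by
    intro x
    have : x ∈ (U ⊔ V : Y.Opens) := by rw [hUV]; trivial
    exact this
  have hWVc : IsCompact ((W ⊓ V : Y.Opens) : Set Y) :=
    QuasiSeparatedSpace.inter_isCompact _ _ W.isOpen hW V.isOpen hV.isCompact
  have hUVc : IsCompact ((U ⊓ V : Y.Opens) : Set Y) :=
    QuasiSeparatedSpace.inter_isCompact _ _ U.isOpen hU V.isOpen hV.isCompact
  haveI : CompactSpace ↥((U ⊓ V : Y.Opens) : Scheme.{u}) := isCompact_iff_compactSpace.mp hUVc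
  let jU := Y.homOfLE (inf_le_left : U ⊓ V ≤ U)
  let jV := Y.homOfLE (inf_le_right : U ⊓ V ≤ V)
  have hjU : jU ≫ U.ι = (U ⊓ V).ι := Y.homOfLE_ι _
  have hjV : jV ≫ V.ι = (U ⊓ V).ι := Y.homOfLE_ι _
  let ZU : (U : Scheme.{u}).Opens := U.ι ⁻¹ᵁ W
  let ZV : (V : Scheme.{u}).Opens := V.ι ⁻¹ᵁ W
  have hZV : IsCompact (ZV : Set ↥(V : Scheme.{u})) := isCompact_preimage_ι V W hWVc
  let RU := DCoh.restrictD U.ι
  let RV := DCoh.restrictD V.ι
  have hvan : ∀ M : DCoh.D Y, VanishOn (RU.obj M) (ZU : Set ↥(U : Scheme.{u})) →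
      VanishOn (RV.obj M) (ZV : Set ↥(V : Scheme.{u})) → VanishOn M (W : Set Y) := by
    intro M h1 h2 x hxZ n
    rcases hcov x with hx | hx
    · exact ((vanishOn_restrictD_iff U.ι M _).1 h1) x ⟨⟨x, hx⟩, hxZ, rfl⟩ n
    · exact ((vanishOn_restrictD_iff V.ι M _).1 h2) x ⟨⟨x, hx⟩, hxZ, rfl⟩ n
  -- extend `P_U ⊕ P_U[1]` to `Y`
  let GU := DCoh.restrictD jU
  let F := GU.obj P_U
  have hF : DCoh.IsPerfect F := isPerfect_restrictJ jU P_U hP_U
  have hFZ : VanishOn F ((jV ⁻¹ᵁ ZV : ((U ⊓ V : Y.Opens) : Scheme.{u}).Opens) :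
      Set ↥((U ⊓ V : Y.Opens) : Scheme.{u})) := by
    rw [vanishOn_restrictD_iff]
    refine VanishOn.mono hP_UZ ?_
    rintro _ ⟨x, hx, rfl⟩
    show U.ι.base (jU.base x) ∈ W
    have h1 : U.ι.base (jU.base x) = V.ι.base (jV.base x) := by
      rw [← Scheme.Hom.comp_apply, ← Scheme.Hom.comp_apply, hjU, hjV]
    rw [h1]
    exact hx
  obtain ⟨P₂, hP₂, hP₂Z, ⟨e₂⟩⟩ := extend_sum_shift_supp_affine_imm jV ZV hZV F hF hFZ
  let A := P_U ⊞ P_U⟦(1 : ℤ)⟧
  have hA : DCoh.IsPerfect A := isPerfect_biprod _ _ hP_U (isPerfect_shift hP_U 1)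
  have hAZ : VanishOn A (ZU : Set ↥(U : Scheme.{u})) :=
    VanishOn.biprod ZU hP_UZ (VanishOn.shift ZU hP_UZ 1)
  haveI : PreservesBinaryBiproducts GU := preservesBinaryBiproducts_of_preservesBiproducts GU
  let c : GU.obj A ≅ (DCoh.restrictD jV).obj P₂ :=
    GU.mapBiprod P_U (P_U⟦(1 : ℤ)⟧) ≪≫
      biprod.mapIso (Iso.refl F) ((GU.commShiftIso (1 : ℤ)).app P_U) ≪≫ e₂.symm
  obtain ⟨Q', ⟨a₁⟩, ⟨a₂⟩⟩ := Groth.Agent.Lib.Helper5.MV.exists_glue' U V A P₂ c
  have hQ' : DCoh.IsPerfect Q' := by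
    apply isPerfect_of_restrict_cover
    intro x
    rcases hcov x with hx | hx
    · exact ⟨U, hx, isPerfect_of_iso a₁.symm hA⟩
    · exact ⟨V, hx, isPerfect_of_iso a₂.symm hP₂⟩
  have hQ'Z : VanishOn Q' (W : Set Y) :=
    hvan Q' (VanishOn.of_iso a₁.symm hAZ) (VanishOn.of_iso a₂.symm hP₂Z)
  -- extend the map
  let αU : RU.obj Q' ⟶ RU.obj E := a₁.hom ≫ biprod.fst ≫ a_U
  obtain ⟨R', β, γ, hR', hR'W, hβU, hβγ⟩ :=
    thomason_extension_mv U V hcov hU hV W Q' E hQ' hE hQ'Z αU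
  haveI := hβU
  refine ⟨R', γ, biprod.inl ≫ a₁.inv ≫ inv (RU.map β), RU.map β ≫ a₁.hom ≫ biprod.fst,
    hR', hR'W, ?_, ?_⟩
  · simp
  · rw [← hβγ]
    simp [αU]

end MV

section Opens

variable (X : Scheme.{u})

/-- the lifting property for `U ⟶ U ⊔ T`, `T` a quasi-compact open -/
theorem liftHolds_opens [QuasiSeparatedSpace X] (U : X.Opens) (hU : IsCompact (U : Set X))
    (T : X.Opens) (hT : IsCompact (T : Set X)) :
    LiftHolds (X.homOfLE (le_sup_left : U ≤ U ⊔ T)) := by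
  refine compact_open_induction_on
    (P := fun T : X.Opens => LiftHolds (X.homOfLE (le_sup_left : U ≤ U ⊔ T))) T hT ?_ ?_
  · -- `U ⊔ ⊥ = U`
    have hle : U ⊔ ⊥ ≤ U := by simp
    let φ : (U : Scheme.{u}) ≅ ((U ⊔ ⊥ : X.Opens) : Scheme.{u}) :=
      { hom := X.homOfLE le_sup_left
        inv := X.homOfLE hle
        hom_inv_id := by simp
        inv_hom_id := by simp }
    exact liftHolds_iso φ
  · rintro S hS V hAS
    let S₁ : X.Opens := U ⊔ S
    let T' : X.Opens := U ⊔ (S ⊔ V.1)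
    have hS₁T' : S₁ ≤ T' := sup_le le_sup_left (le_trans le_sup_left le_sup_right)
    have hVT' : V.1 ≤ T' := le_trans le_sup_right le_sup_right
    let U' : (T' : Scheme.{u}).Opens := T'.ι ⁻¹ᵁ S₁
    let V' : (T' : Scheme.{u}).Opens := T'.ι ⁻¹ᵁ V.1
    haveI : QuasiSeparatedSpace ↥(T' : Scheme.{u}) :=
      QuasiSeparatedSpace.of_isOpenEmbedding T'.ι.isOpenEmbedding
    haveI : QuasiSeparatedSpace ↥(S₁ : Scheme.{u}) :=
      QuasiSeparatedSpace.of_isOpenEmbedding S₁.ι.isOpenEmbedding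
    have hUV : U' ⊔ V' = ⊤ := by
      ext x
      constructor
      · intro _
        trivial
      · intro _
        have hx : x.1 ∈ U ⊔ (S ⊔ V.1) := x.2
        rcases hx with hx | hx | hx
        · exact Or.inl (Or.inl hx)
        · exact Or.inl (Or.inr hx)
        · exact Or.inr hx
    have hS₁c : IsCompact (S₁ : Set X) := by
      have h1 : (S₁ : Set X) = (U : Set X) ∪ (S : Set X) := Opens.coe_sup U S
      rw [h1]
      exact hU.union hS
    have hT'c : IsCompact (T' : Set X) := by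
      have h1 : (T' : Set X) = (U : Set X) ∪ ((S : Set X) ∪ (V.1 : Set X)) := by
        show ((U ⊔ (S ⊔ V.1) : X.Opens) : Set X) = _
        rw [Opens.coe_sup, Opens.coe_sup]
      rw [h1]
      exact hU.union (hS.union V.2.isCompact)
    have hU' : IsCompact (U' : Set ↥(T' : Scheme.{u})) := by
      apply isCompact_preimage_ι T' S₁
      have h1 : S₁ ⊓ T' = S₁ := inf_eq_left.2 hS₁T'
      rw [h1]
      exact hS₁c
    have hV' : IsAffineOpen V' := by
      apply V.2.preimage_of_isOpenImmersion T'.ι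
      rw [Scheme.Opens.opensRange_ι]
      exact hVT'
    have hmv : LiftHolds U'.ι := liftHolds_mv U' V' hUV hU' hV'
    let φ : (U' : Scheme.{u}) ≅ (S₁ : Scheme.{u}) := Scheme.Opens.isoOfLE hS₁T'
    have hφ : φ.hom ≫ S₁.ι = U'.ι ≫ T'.ι := Scheme.Opens.isoOfLE_hom_ι hS₁T'
    have h1 : LiftHolds (φ.inv ≫ U'.ι) := by
      refine LiftHolds.comp φ.inv U'.ι (liftHolds_iso φ.symm) hmv ?_
      intro W hW
      apply isCompact_preimage_ι U' W
      exact QuasiSeparatedSpace.inter_isCompact _ _ W.isOpen hW U'.isOpen hU'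
    have h2 : LiftHolds (X.homOfLE (le_sup_left : U ≤ U ⊔ S) ≫ φ.inv ≫ U'.ι) := by
      refine LiftHolds.comp _ _ hAS h1 ?_
      intro W hW
      have hmono : (φ.inv ≫ U'.ι) ≫ T'.ι = S₁.ι := by
        rw [Category.assoc, ← hφ, Iso.inv_hom_id_assoc]
      -- the preimage of a quasi-compact open under the open immersion `S₁ ⟶ T'`
      have hc : IsCompact ((U'.ι ⁻¹ᵁ W : (U' : Scheme.{u}).Opens) : Set ↥(U' : Scheme.{u})) := by
        apply isCompact_preimage_ι U' W
        exact QuasiSeparatedSpace.inter_isCompact _ _ W.isOpen hW U'.isOpen hU'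
      have himg : (((φ.inv ≫ U'.ι) ⁻¹ᵁ W : (S₁ : Scheme.{u}).Opens) : Set ↥(S₁ : Scheme.{u})) =
          (Scheme.homeoOfIso φ.symm) ⁻¹'
            ((U'.ι ⁻¹ᵁ W : (U' : Scheme.{u}).Opens) : Set ↥(U' : Scheme.{u})) := rfl
      rw [himg, Homeomorph.isCompact_preimage]
      exact hc
    refine LiftHolds.of_eq ?_ h2
    rw [← cancel_mono T'.ι]
    simp only [Category.assoc]
    rw [← hφ, Iso.inv_hom_id_assoc, Scheme.homOfLE_ι]
    exact (X.homOfLE_ι _).symm

/-- **lifting maps from perfect complexes with supports** (Thomason) on a quasi-compact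
quasi-separated scheme -/
theorem liftHolds [CompactSpace X] [QuasiSeparatedSpace X] (U : X.Opens)
    (hU : IsCompact (U : Set X)) : LiftHolds U.ι := by
  have h := liftHolds_opens X U hU ⊤ isCompact_univ
  have hle : (⊤ : X.Opens) ≤ U ⊔ ⊤ := le_sup_right
  let φ : ((U ⊔ ⊤ : X.Opens) : Scheme.{u}) ≅ X :=
    { hom := (U ⊔ ⊤ : X.Opens).ι
      inv := X.topIso.inv ≫ X.homOfLE hle
      hom_inv_id := by
        rw [← cancel_mono (U ⊔ ⊤ : X.Opens).ι]
        simp
      inv_hom_id := by simp }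
  have h2 : LiftHolds (X.homOfLE (le_sup_left : U ≤ U ⊔ ⊤) ≫ φ.hom) := by
    refine LiftHolds.comp _ _ h (liftHolds_iso φ) ?_
    intro W hW
    have himg : ((φ.hom ⁻¹ᵁ W : ((U ⊔ ⊤ : X.Opens) : Scheme.{u}).Opens) : Set _) =
        (Scheme.homeoOfIso φ) ⁻¹' (W : Set X) := rfl
    rw [himg, Homeomorph.isCompact_preimage]
    exact hW
  exact LiftHolds.of_eq (by simp [φ]) h2

end Opens

end Groth.Agent.Lib.Helper5.Approx
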