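import Mathlib
import Groth.Agent.Lib.Helper5.Approx.Main

/-!
# Approximation by perfect complexes: sharper forms and converses (helper5)
-/
set_option autoImplicit false
set_option linter.unusedSectionVars false
set_option linter.unusedVariables false
universe u
open CategoryTheory CategoryTheory.Limits AlgebraicGeometry Pretriangulated TopologicalSpace
open scoped ZeroObject
attribute [local instance] HasDerivedCategory.standard

namespace Groth.Agent.Lib.Helper5.Approx

open Groth.Agent.Lib.Helper5 Groth.Agent.Lib.Helper5.QC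
  Groth.Agent.Lib.Helper5.TildePC Groth.Agent.Lib.Helper5.PerfTri
  Groth.Agent.Lib.Helper5.CountHom Groth.Agent.Lib.Helper5.HomVanish
  Groth.Agent.Lib.Helper5.BvdB Groth.Agent.Lib.Helper5.RpushSupp
  Groth.Agent.Lib.Helper5.LocalCoh Groth.Agent.Lib.Helper5.PCApprox
  Groth.Agent.Lib.Helper5.PCTri Groth.Agent.Lib.Helper5.IsoSq
  Groth.Agent.Lib.Helper5.PCTop Groth.Agent.Lib.Helper5.PCSingle
  Groth.Agent.Lib.Helper5.LpullLib Groth.Agent.Lib.Helper5.PCBiprod

open DerivedCategory.HomologySequence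

section General

variable {X : Scheme.{u}}

/-- the cone of an approximation at level `m` is `≤ m - 1` -/
theorem isLE_cone_of_isApprox {m : ℤ} (T : Triangle (DCoh.D X)) (hT : T ∈ distTriang _)
    (h : IsApprox m T.mor₁) : T.obj₃.IsLE (m - 1) := by
  rw [DerivedCategory.isLE_iff]
  intro i hi
  have hepi : Epi ((DerivedCategory.homologyFunctor X.Modules i).map T.mor₁) := by
    rcases eq_or_lt_of_le (show m ≤ i by omega) with rfl | hi'
    · exact h.2
    · haveI := h.1 i hi'
      infer_instance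
  have h0 : (DerivedCategory.homologyFunctor X.Modules i).map T.mor₂ = 0 :=
    (epi_homologyMap_mor₁_iff T hT i).1 hepi
  haveI := h.1 (i + 1) (by omega)
  have hmono : Mono ((DerivedCategory.homologyFunctor X.Modules (i + 1)).map T.mor₁) :=
    inferInstance
  have hδ : δ T i (i + 1) rfl = 0 := (mono_homologyMap_mor₁_iff T hT i (i + 1) rfl).1 hmono
  haveI : Epi ((DerivedCategory.homologyFunctor X.Modules i).map T.mor₂) :=
    (epi_homologyMap_mor₂_iff T hT i (i + 1) rfl).2 hδ
  exact IsZero.of_epi_eq_zero _ h0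

/-- from the map form of an approximation to `ApproxOn` -/
theorem ApproxOn.of_map {W : X.Opens} {m : ℤ} {E P : DCoh.D X} (α : P ⟶ E)
    (hP : DCoh.IsPerfect P) (hPW : VanishOn P (W : Set X)) (h : IsApprox m α) :
    ApproxOn (W : Set X) m E := by
  obtain ⟨C, π, δ, hT⟩ := distinguished_cocone_triangle α
  exact ApproxOn.of_P α π δ hT hP hPW (isLE_cone_of_isApprox _ hT h)

/-- a general step with independent indices -/
theorem approxOn_of_step' (W : X.Opens) (m a b : ℤ) (E : DCoh.D X)
    (hE : DCoh.IsQCohD E) (hpc : DCoh.IsPseudoCoherentD a E)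
    (hv : VanishGE b E (W : Set X)) (t : ℤ) (hstep : ApproxOn (W : Set X) t E)
    (hrec : ∀ C : DCoh.D X, DCoh.IsQCohD C → DCoh.IsPseudoCoherentD a C →
      VanishGE b C (W : Set X) → C.IsLE (t - 1) → ApproxOn (W : Set X) m C) :
    ApproxOn (W : Set X) m E := by
  obtain ⟨C, Z, π, ι, δ, hT, hC, hZ, hZW⟩ := hstep
  have hCq : DCoh.IsQCohD C :=
    isQCohD_of_triangle_mid _ hT hE (isQCohD_of_isPerfect Z hZ)
  have hCpc : DCoh.IsPseudoCoherentD a C :=
    (isPC_triangle a _ hT).2.1 hpc (isPseudoCoherentD_of_isPerfect Z hZ a)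
  have hCv : VanishGE b C (W : Set X) :=
    vanishGE_obj₃ W b _ (inv_rot_of_distTriang _ hT) (VanishOn.shift W hZW (-1)) hv
  exact ApproxOn.compose π ι δ hT hZ hZW (hrec C hCq hCpc hCv hC)

/-- the support form of `VanishGE` -/
theorem vanishGE_of_support (T : Set X) (a : ℤ) (E : DCoh.D X)
    (h : ∀ i : ℤ, a ≤ i → CohB1.support (DCoh.HD E i) ⊆ T) : VanishGE a E Tᶜ := by
  intro x hx n hn
  by_contra hns
  exact hx (h n hn hns)

theorem support_subset_of_vanishOn (T : Set X) (P : DCoh.D X) (h : VanishOn P Tᶜ) (i : ℤ) :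
    CohB1.support (DCoh.HD P i) ⊆ T := by
  intro x hx
  by_contra hxT
  exact hx (h x hxT i)

theorem vanishOn_of_support (T : Set X) (P : DCoh.D X)
    (h : ∀ i : ℤ, CohB1.support (DCoh.HD P i) ⊆ T) : VanishOn P Tᶜ := by
  intro x hx i
  by_contra hns
  exact hx (h i hns)

end General

section Spec

variable (R : CommRingCat.{u})

/-- **sharp approximation on `Spec R`**: `m`-pseudo-coherence and supports in degrees
`≥ m - r + 1` suffice, `r` the number of equations of the closed set -/
theorem approx_spec_sharp (fs : List R) (W : (Spec (CommRingCat.of R)).Opens)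
    (hW : ∀ x : Spec (CommRingCat.of R),
      x ∈ W ↔ ∃ f ∈ fs, f ∉ (x : PrimeSpectrum.Top R).asIdeal)
    (m : ℤ) (E : DCoh.D (Spec (CommRingCat.of R))) (hE : DCoh.IsQCohD E)
    (hpc : DCoh.IsPseudoCoherentD m E)
    (hv : VanishGE (m - fs.length + 1) E (W : Set (Spec (CommRingCat.of R)))) :
    ApproxOn (W : Set (Spec (CommRingCat.of R))) m E := by
  classical
  have key : ∀ (n : ℕ) (E : DCoh.D (Spec (CommRingCat.of R))), DCoh.IsQCohD E →
      DCoh.IsPseudoCoherentD m E →
      VanishGE (m - fs.length + 1) E (W : Set (Spec (CommRingCat.of R))) →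
      E.IsLE (m - 1 + n) → ApproxOn (W : Set (Spec (CommRingCat.of R))) m E := by
    intro n
    induction n with
    | zero =>
      intro E hE hpc hv hle
      exact approxOn_of_isLE _ m E (by simpa using hle)
    | succ n ih =>
      intro E hE hpc hv hle
      have hle' : E.IsLE (m + n) := by
        have : m - 1 + ((n + 1 : ℕ) : ℤ) = m + n := by push_cast; ring
        rw [this] at hle
        exact hle
      have hstep : ApproxOn (W : Set (Spec (CommRingCat.of R))) (m + n) E :=
        approx_step_spec R fs W hW (m + n) E hE hle'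
          (isPC_mono (by omega) hpc) (hv.mono (by omega) subset_rfl)
      refine approxOn_of_step' W m m (m - fs.length + 1) E hE hpc hv (m + n) hstep ?_
      intro C hCq hCpc hCv hC
      refine ih C hCq hCpc hCv ?_
      have : m - 1 + (n : ℤ) = m + n - 1 := by ring
      rw [this]
      exact hC
  haveI : CompactSpace ↥(Spec (CommRingCat.of R)) := inferInstance
  obtain ⟨b, hb⟩ := exists_isLE_of_isPC E _ hpc
  obtain ⟨n, hn⟩ : ∃ n : ℕ, b ≤ m - 1 + n := ⟨(b - (m - 1)).toNat, by omega⟩
  exact key n E hE hpc hv (DerivedCategory.TStructure.t.isLE_of_le E b _ hn)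

end Spec

/-- transport of a single approximation problem along an isomorphism of schemes -/
theorem ApproxOn.of_iso_scheme {Y X' : Scheme.{u}} (φ : Y ≅ X') (W : Set X') (m : ℤ)
    (E : DCoh.D Y) (h : ApproxOn W m ((DCoh.restrictD φ.inv).obj E)) :
    ApproxOn ((fun y => φ.hom.base y) ⁻¹' W) m E := by
  have h2 := ApproxOn.restrict φ.hom h
  exact h2.of_iso ((restrictDEquiv φ).counitIso.app E)

section Affine

variable (X : Scheme.{u}) [IsAffine X]

/-- **sharp approximation on affine schemes** -/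
theorem approx_affine_sharp (fs : Finset Γ(X, ⊤)) (m : ℤ) (E : DCoh.D X)
    (hE : DCoh.IsQCohD E) (hpc : DCoh.IsPseudoCoherentD m E)
    (hv : VanishGE (m - fs.card + 1) E (X.zeroLocus (U := ⊤) (↑fs : Set Γ(X, ⊤)))ᶜ) :
    ApproxOn (X.zeroLocus (U := ⊤) (↑fs : Set Γ(X, ⊤)))ᶜ m E := by
  classical
  let R : CommRingCat.{u} := CommRingCat.of Γ(X, ⊤)
  let φ : X ≅ Spec (CommRingCat.of Γ(X, ⊤)) := X.isoSpec
  let W' : (Spec (CommRingCat.of R)).Opens :=
    ⟨(PrimeSpectrum.zeroLocus (↑fs : Set R))ᶜ, (PrimeSpectrum.isClosed_zeroLocus _).isOpen_compl⟩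
  have hmem : ∀ x : PrimeSpectrum R, x ∈ (PrimeSpectrum.zeroLocus (↑fs : Set R))ᶜ ↔
      ∃ f ∈ fs.toList, f ∉ x.asIdeal := by
    intro x
    rw [Set.mem_compl_iff, PrimeSpectrum.mem_zeroLocus, Set.not_subset]
    constructor
    · rintro ⟨f, hf, h⟩
      exact ⟨f, by simpa using hf, h⟩
    · rintro ⟨f, hf, h⟩
      exact ⟨f, by simpa using hf, h⟩
  have hW' : ∀ x : Spec (CommRingCat.of R),
      x ∈ W' ↔ ∃ f ∈ fs.toList, f ∉ (x : PrimeSpectrum.Top R).asIdeal := fun x => hmem x
  have hmem2 : ∀ x : X, (∃ f ∈ fs.toList, f ∉ (φ.hom.base x : PrimeSpectrum.Top R).asIdeal) ↔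
      x ∉ X.zeroLocus (U := ⊤) (↑fs : Set Γ(X, ⊤)) := by
    intro x
    rw [Scheme.mem_zeroLocus_iff]
    push Not
    constructor
    · rintro ⟨f, hf, hxf⟩
      refine ⟨f, by simpa using hf, ?_⟩
      have h1 : x ∈ X.toSpecΓ ⁻¹ᵁ (PrimeSpectrum.basicOpen f) := hxf
      rw [Scheme.toSpecΓ_preimage_basicOpen] at h1
      exact h1
    · rintro ⟨f, hf, hxf⟩
      refine ⟨f, by simpa using hf, ?_⟩
      have h1 : x ∈ X.toSpecΓ ⁻¹ᵁ (PrimeSpectrum.basicOpen f) := by
        rw [Scheme.toSpecΓ_preimage_basicOpen]; exact hxf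
      exact h1
  have hset : (fun y => φ.hom.base y) ⁻¹' (W' : Set (Spec (CommRingCat.of R))) =
      (X.zeroLocus (U := ⊤) (↑fs : Set Γ(X, ⊤)))ᶜ := by
    ext x
    exact (hW' (φ.hom.base x)).trans (hmem2 x)
  have hlen : fs.toList.length = fs.card := Finset.length_toList fs
  have himg : ∀ x : Spec (CommRingCat.of R), φ.hom.base (φ.inv.base x) = x := by
    intro x
    rw [← Scheme.Hom.comp_apply, φ.inv_hom_id]
    rfl
  have h1 : ApproxOn (W' : Set (Spec (CommRingCat.of R))) m ((DCoh.restrictD φ.inv).obj E) := by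
    apply approx_spec_sharp R fs.toList W' hW' m _ (isQCohD_restrictJ φ.inv E hE)
      (isPC_restrictD φ.inv hpc)
    rw [vanishGE_restrictD_iff, hlen]
    refine hv.mono le_rfl ?_
    rintro _ ⟨x, hx, rfl⟩
    rw [← hset]
    show φ.hom.base (φ.inv.base x) ∈ W'
    rw [himg x]
    exact hx
  have h2 := ApproxOn.of_iso_scheme φ (W' : Set (Spec (CommRingCat.of R))) m E h1
  rw [hset] at h2
  exact h2

end Affine

end Groth.Agent.Lib.Helper5.Approx
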