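import Mathlib
import Groth.Agent.Lib.Helper5.Approx.AffMain
import Groth.Agent.Lib.Helper5.Approx.ExtZero
import Groth.Agent.Lib.Helper5.Approx.ExtMapMV
import Groth.Agent.Lib.Helper5.Approx.MVStep
import Groth.Agent.Lib.Helper5.Approx.Sharp

/-!
# The Mayer–Vietoris step for approximation without quasi-separatedness (helper5)
-/
set_option autoImplicit false
set_option linter.unusedSectionVars false
set_option linter.unusedVariables false
universe u
open CategoryTheory CategoryTheory.Limits AlgebraicGeometry Pretriangulated TopologicalSpace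
open scoped ZeroObject
attribute [local instance] HasDerivedCategory.standard

namespace Groth.Agent.Lib.Helper5.Approx

open Groth.Agent.Lib.Helper5 Groth.Agent.Lib.Helper5.QC
  Groth.Agent.Lib.Helper5.TildePC Groth.Agent.Lib.Helper5.PerfTri
  Groth.Agent.Lib.Helper5.CountHom Groth.Agent.Lib.Helper5.HomVanish
  Groth.Agent.Lib.Helper5.BvdB Groth.Agent.Lib.Helper5.RpushSupp
  Groth.Agent.Lib.Helper5.LocalCoh Groth.Agent.Lib.Helper5.PCApprox
  Groth.Agent.Lib.Helper5.PCTri Groth.Agent.Lib.Helper5.IsoSq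
  Groth.Agent.Lib.Helper5.LpullLib Groth.Agent.Lib.Helper5.PCBiprod
open DerivedCategory.HomologySequence

variable {Y : Scheme.{u}}

attribute [local instance] preservesFiniteLimits_extZero
attribute [local instance] HomVanish.hasRpush'

/-- the inclusion of `U` is quasi-compact when `Y = U ∪ V` with `U`, `U ∩ V` compact and `V`
affine (no quasi-separatedness of `Y` needed) -/
theorem quasiCompact_ι_of_cover (U V : Y.Opens) (hcov : ∀ x : Y, x ∈ U ∨ x ∈ V)
    (hU : IsCompact (U : Set Y)) (hV : IsAffineOpen V)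
    (hUVc : IsCompact ((U ⊓ V : Y.Opens) : Set Y)) : QuasiCompact U.ι := by
  constructor
  intro O hO hOc
  rw [U.ι.isOpenEmbedding.isInducing.isCompact_iff]
  have himg : (fun x => U.ι.base x) '' ((fun x => U.ι.base x) ⁻¹' O) = O ∩ (U : Set Y) := by
    ext y
    constructor
    · rintro ⟨x, hx, rfl⟩
      exact ⟨hx, x.2⟩
    · rintro ⟨hyO, hyU⟩
      exact ⟨⟨y, hyU⟩, hyO, rfl⟩
  show IsCompact ((fun x => U.ι.base x) '' ((fun x => U.ι.base x) ⁻¹' O))
  rw [himg]
  have key : ∃ K : Set Y, IsCompact K ∧ O ∩ (U : Set Y) ⊆ K ∧ K ⊆ O ∩ (U : Set Y) := by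
    refine hOc.induction_on (p := fun S => ∃ K : Set Y, IsCompact K ∧ S ∩ (U : Set Y) ⊆ K ∧
      K ⊆ O ∩ (U : Set Y)) ?_ ?_ ?_ ?_
    · exact ⟨∅, isCompact_empty, by simp, by simp⟩
    · rintro S T hST ⟨K, hK, h1, h2⟩
      exact ⟨K, hK, (Set.inter_subset_inter_left _ hST).trans h1, h2⟩
    · rintro S T ⟨K, hK, h1, h2⟩ ⟨K', hK', h1', h2'⟩
      refine ⟨K ∪ K', hK.union hK', ?_, Set.union_subset h2 h2'⟩
      rw [Set.union_inter_distrib_right]
      exact Set.union_subset_union h1 h1'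
    · intro x hx
      let O' : Y.Opens := ⟨O, hO⟩
      rcases hcov x with hxU | hxV
      · obtain ⟨A, hA, hxA, hAle⟩ := (Opens.isBasis_iff_nbhd.1 Y.isBasis_affineOpens)
          (show x ∈ O' ⊓ U from ⟨hx, hxU⟩)
        refine ⟨(A : Set Y), mem_nhdsWithin_of_mem_nhds (A.isOpen.mem_nhds hxA), (A : Set Y),
          IsAffineOpen.isCompact hA, Set.inter_subset_left, ?_⟩
        intro y hy
        exact hAle hy
      · obtain ⟨A, hA, hxA, hAle⟩ := (Opens.isBasis_iff_nbhd.1 Y.isBasis_affineOpens)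
          (show x ∈ O' ⊓ V from ⟨hx, hxV⟩)
        have hAV : (A : Set Y) ⊆ (V : Set Y) := fun y hy => (hAle hy).2
        have hc : IsCompact ((A : Set Y) ∩ ((U ⊓ V : Y.Opens) : Set Y)) :=
          hV.isQuasiSeparated (A : Set Y) ((U ⊓ V : Y.Opens) : Set Y) hAV A.isOpen
            (IsAffineOpen.isCompact hA) (fun y hy => hy.2) (U ⊓ V).isOpen hUVc
        refine ⟨(A : Set Y), mem_nhdsWithin_of_mem_nhds (A.isOpen.mem_nhds hxA),
          (A : Set Y) ∩ ((U ⊓ V : Y.Opens) : Set Y), hc, ?_, ?_⟩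
        · rintro y ⟨hyA, hyU⟩
          exact ⟨hyA, hyU, hAV hyA⟩
        · rintro y ⟨hyA, hyU, _⟩
          exact ⟨(hAle hyA).1, hyU⟩
  obtain ⟨K, hK, h1, h2⟩ := key
  rw [show O ∩ (U : Set Y) = K from Set.Subset.antisymm h1 h2]
  exact hK

/-- **Thomason's extension of maps with supports** for `Y = U ∪ V`, `V` affine: a map
`R|_U ⟶ E|_U` from a perfect complex extends to `Y` after replacing `R` by a perfect complex
which agrees with it over `U` -/
theorem thomason_extension_mv' (U V : Y.Opens)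
    (hcov : ∀ x : Y, x ∈ U ∨ x ∈ V) (hU : IsCompact (U : Set Y)) (hV : IsAffineOpen V)
    (hUVc : IsCompact ((U ⊓ V : Y.Opens) : Set Y))
    (W : Y.Opens) (R E : DCoh.D Y) (hR : DCoh.IsPerfect R) (hE : DCoh.IsQCohD E)
    (hRW : VanishOn R (W : Set Y))
    (α : (DCoh.restrictD U.ι).obj R ⟶ (DCoh.restrictD U.ι).obj E) :
    ∃ (R' : DCoh.D Y) (β : R' ⟶ R) (γ : R' ⟶ E), DCoh.IsPerfect R' ∧
      VanishOn R' (W : Set Y) ∧ IsIso ((DCoh.restrictD U.ι).map β) ∧
      (DCoh.restrictD U.ι).map β ≫ α = (DCoh.restrictD U.ι).map γ := by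
  haveI : IsAffine (V : Scheme.{u}) := hV
  haveI : CompactSpace ↥(U : Scheme.{u}) := isCompact_iff_compactSpace.mp hU
  haveI : QuasiCompact U.ι := quasiCompact_ι_of_cover U V hcov hU hV hUVc
  let adjU := resAdj U.ι
  let adjV := resAdj V.ι
  let RU := DCoh.restrictD U.ι
  let RV := DCoh.restrictD V.ι
  let η : E ⟶ (DCoh.Rpush U.ι).obj (RU.obj E) := adjU.unit.app E
  obtain ⟨C, π, δ, hT⟩ := distinguished_cocone_triangle η
  have hC : DCoh.IsQCohD C := isQCohD_of_triangle_right _ hT hE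
    (isQCohD_rpush U.ι _ (isQCohD_restrictJ U.ι E hE))
  have hηU : IsIso (RU.map η) := by
    have h1 : RU.map η ≫ adjU.counit.app (RU.obj E) = 𝟙 _ := adjU.left_triangle_components E
    have h2 : IsIso (RU.map η ≫ adjU.counit.app (RU.obj E)) := by
      rw [h1]
      infer_instance
    exact IsIso.of_isIso_comp_right _ (adjU.counit.app (RU.obj E))
  have hCU : VanishOn C (U : Set Y) := by
    rw [← isZero_restrictD_iff_vanishOn]
    exact (Triangle.isZero₃_iff_isIso₁ _ (RU.map_distinguished _ hT)).2 hηU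
  let α' : R ⟶ (DCoh.Rpush U.ι).obj (RU.obj E) := adjU.homEquiv R _ α
  let ψ : R ⟶ C := α' ≫ π
  -- the situation on the affine open `V`
  let SU : (V : Scheme.{u}).Opens := V.ι ⁻¹ᵁ U
  let ZV : (V : Scheme.{u}).Opens := V.ι ⁻¹ᵁ W
  have hSU : IsCompact (SU : Set ↥(V : Scheme.{u})) :=
    isCompact_preimage_ι V U hUVc
  have hCV : DCoh.IsQCohD (RV.obj C) := isQCohD_restrictJ V.ι C hC
  have hCSU : VanishOn (RV.obj C) (SU : Set ↥(V : Scheme.{u})) := by
    rw [vanishOn_restrictD_iff]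
    refine hCU.mono ?_
    rintro _ ⟨y, hy, rfl⟩
    exact hy
  have hRV : DCoh.IsPerfect (RV.obj R) := isPerfect_restrictJ V.ι R hR
  have hRZV : VanishOn (RV.obj R) (ZV : Set ↥(V : Scheme.{u})) := by
    rw [vanishOn_restrictD_iff]
    refine hRW.mono ?_
    rintro _ ⟨y, hy, rfl⟩
    exact hy
  obtain ⟨E₁, N, β₁, ι₁, δ₁, hT₁, hE₁, hN, hNSU, hE₁ZV, hβ₁⟩ :=
    exists_fibre_affine_supp SU hSU ZV (RV.obj R) (RV.obj C) hRV hCV hCSU hRZV (RV.map ψ)
  have hNZV : VanishOn N (ZV : Set ↥(V : Scheme.{u})) :=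
    vanishOn_obj₂ ZV _ (rot_of_distTriang _ hT₁) hRZV (VanishOn.shift ZV hE₁ZV 1)
  -- push `N` forward to `Y`
  let N' := (DCoh.Rpush V.ι).obj N
  let εN : RV.obj N' ≅ N := asIso (adjV.counit.app N)
  have hN'U : IsZero (RU.obj N') :=
    Groth.Agent.Lib.Helper5.RpushOpen.isZero_restrictD_rpush V.ι U N (fun k x hx => hNSU x hx k)
  have hN'W : IsZero ((DCoh.restrictD W.ι).obj N') :=
    Groth.Agent.Lib.Helper5.RpushOpen.isZero_restrictD_rpush V.ι W N (fun k x hx => hNZV x hx k)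
  have hN' : DCoh.IsPerfect N' := by
    apply isPerfect_of_restrict_cover
    intro x
    rcases hcov x with hx | hx
    · exact ⟨U, hx, isPerfect_of_isZero _ hN'U⟩
    · exact ⟨V, hx, isPerfect_of_iso εN.symm hN⟩
  let ι' : R ⟶ N' := adjV.homEquiv R N ι₁
  obtain ⟨R', β, δ', hT'⟩ := distinguished_cocone_triangle₁ ι'
  have hR' : DCoh.IsPerfect R' := (two_of_three _ hT').2.2 hR hN'
  have hR'W : VanishOn R' (W : Set Y) := by
    have h1 : VanishOn (N'⟦(-1 : ℤ)⟧) (W : Set Y) :=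
      VanishOn.shift W ((isZero_restrictD_iff_vanishOn W N').1 hN'W) (-1)
    exact vanishOn_obj₂ W _ (inv_rot_of_distTriang _ hT') h1 hRW
  have hβU : IsIso (RU.map β) :=
    (Triangle.isZero₃_iff_isIso₁ _ (RU.map_distinguished _ hT')).1 hN'U
  have hψ0 : β ≫ ψ = 0 := by
    let ηC := adjV.unit.app C
    haveI hηC : IsIso ηC := isIso_unit_of_vanishOn U V hcov C hCU
    have h0 : β ≫ ι' = 0 := comp_distTriang_mor_zero₁₂ _ hT'
    have h2 : ι₁ = RV.map ι' ≫ adjV.counit.app N := by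
      have h3 : (adjV.homEquiv R N).symm ι' = ι₁ := by simp [ι']
      rw [← h3, Adjunction.homEquiv_counit]
    have h1 : RV.map β ≫ ι₁ = 0 := by
      rw [h2, ← Category.assoc, ← Functor.map_comp, h0, Functor.map_zero, zero_comp]
    obtain ⟨θ, hθ⟩ : ∃ θ : RV.obj R' ⟶ E₁, RV.map β = θ ≫ β₁ :=
      Triangle.coyoneda_exact₂ _ hT₁ _ h1
    have h3 : RV.map (β ≫ ψ) = 0 := by
      rw [Functor.map_comp, hθ, Category.assoc, hβ₁, comp_zero]
    have h4 : (β ≫ ψ) ≫ ηC = 0 := by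
      haveI := Groth.Agent.Lib.Helper5.MV.additive_rpush V.ι
      have h5 := adjV.unit.naturality (β ≫ ψ)
      simp only [Functor.id_obj, Functor.id_map, Functor.comp_obj, Functor.comp_map] at h5
      rw [h5, h3, Functor.map_zero, comp_zero]
    exact (cancel_mono ηC).1 (h4.trans zero_comp.symm)
  have h0 : (β ≫ α') ≫ π = 0 := by rw [Category.assoc]; exact hψ0
  obtain ⟨γ, hγ⟩ : ∃ γ : R' ⟶ E, β ≫ α' = γ ≫ η := Triangle.coyoneda_exact₂ _ hT _ h0
  refine ⟨R', β, γ, hR', hR'W, hβU, ?_⟩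
  apply (adjU.homEquiv R' _).injective
  rw [Adjunction.homEquiv_naturality_left]
  have h3 : adjU.homEquiv R' _ (RU.map γ) = γ ≫ η := by
    have := Adjunction.homEquiv_naturality_left adjU γ (𝟙 (RU.obj E))
    rw [Category.comp_id] at this
    rw [this, Adjunction.homEquiv_id]
  rw [h3]
  exact hγ

/-- **the Mayer–Vietoris step for approximation by perfect complexes with supports** -/
theorem approxHolds_mv' (U V : Y.Opens) (hUV : U ⊔ V = ⊤)
    (hU : IsCompact (U : Set Y)) (hV : IsAffineOpen V)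
    (hUVc : IsCompact ((U ⊓ V : Y.Opens) : Set Y)) (W : Y.Opens)
    (hWVc : IsCompact ((W ⊓ V : Y.Opens) : Set Y))
    (hAU : ApproxHolds (U : Scheme.{u})
      ((U.ι ⁻¹ᵁ W : (U : Scheme.{u}).Opens) : Set ↥(U : Scheme.{u}))) :
    ApproxHolds Y (W : Set Y) := by
  haveI : IsAffine (V : Scheme.{u}) := hV
  haveI : CompactSpace ↥(U : Scheme.{u}) := isCompact_iff_compactSpace.mp hU
  have hcov : ∀ x : Y, x ∈ U ∨ x ∈ V := by
    intro x
    have : x ∈ (U ⊔ V : Y.Opens) := by rw [hUV]; trivial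
    exact this
  haveI : CompactSpace ↥((U ⊓ V : Y.Opens) : Scheme.{u}) := isCompact_iff_compactSpace.mp hUVc
  let jU := Y.homOfLE (inf_le_left : U ⊓ V ≤ U)
  let jV := Y.homOfLE (inf_le_right : U ⊓ V ≤ V)
  have hjU : jU ≫ U.ι = (U ⊓ V).ι := Y.homOfLE_ι _
  have hjV : jV ≫ V.ι = (U ⊓ V).ι := Y.homOfLE_ι _
  let ZU : (U : Scheme.{u}).Opens := U.ι ⁻¹ᵁ W
  let ZV : (V : Scheme.{u}).Opens := V.ι ⁻¹ᵁ W
  let SU : (V : Scheme.{u}).Opens := V.ι ⁻¹ᵁ U
  let S : (V : Scheme.{u}).Opens := SU ⊔ ZV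
  have hZV : IsCompact (ZV : Set ↥(V : Scheme.{u})) := isCompact_preimage_ι V W hWVc
  have hSU : IsCompact (SU : Set ↥(V : Scheme.{u})) := isCompact_preimage_ι V U hUVc
  have hS : IsCompact (S : Set ↥(V : Scheme.{u})) := by
    have h1 : (S : Set ↥(V : Scheme.{u})) = (SU : Set ↥(V : Scheme.{u})) ∪ (ZV : Set _) :=
      Opens.coe_sup SU ZV
    rw [h1]
    exact hSU.union hZV
  obtain ⟨rV, hrV, hV'⟩ := approxHolds_affine (V : Scheme.{u}) S hS
  obtain ⟨rU, hrU, hU'⟩ := hAU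
  let RU := DCoh.restrictD U.ι
  let RV := DCoh.restrictD V.ι
  -- vanishing on `W` can be checked on `U` and on `V`
  have hvan : ∀ M : DCoh.D Y, VanishOn (RU.obj M) (ZU : Set ↥(U : Scheme.{u})) →
      VanishOn (RV.obj M) (ZV : Set ↥(V : Scheme.{u})) → VanishOn M (W : Set Y) := by
    intro M h1 h2 x hxZ n
    rcases hcov x with hx | hx
    · exact ((vanishOn_restrictD_iff U.ι M _).1 h1) x ⟨⟨x, hx⟩, hxZ, rfl⟩ n
    · exact ((vanishOn_restrictD_iff V.ι M _).1 h2) x ⟨⟨x, hx⟩, hxZ, rfl⟩ n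
  refine ⟨rU + rV, by omega, ?_⟩
  intro m
  have key : ∀ (n : ℕ) (E : DCoh.D Y), DCoh.IsQCohD E →
      DCoh.IsPseudoCoherentD (m - (rU + rV)) E → VanishGE (m - (rU + rV)) E (W : Set Y) →
      VanishGE (m - rV + n) E (U : Set Y) → ApproxOn (W : Set Y) m E := by
    intro n
    induction n with
    | zero =>
      intro E hE hpc hv hvU
      have hvU' : VanishGE (m - rV) E (U : Set Y) := hvU.mono (by simp) subset_rfl
      let W' : Y.Opens := U ⊔ W
      have hW'set : (W' : Set Y) = (U : Set Y) ∪ (W : Set Y) := Opens.coe_sup U W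
      have hvW' : VanishGE (m - rV) E (W' : Set Y) := by
        rw [hW'set]
        exact hvU'.union (hv.mono (by omega) subset_rfl)
      have h1 : ApproxOn (S : Set ↥(V : Scheme.{u})) m (RV.obj E) := by
        apply hV' m _ (isQCohD_restrictJ V.ι E hE)
          (isPC_mono (by omega) (isPC_restrictD V.ι hpc))
        rw [vanishGE_restrictD_iff]
        refine hvW'.mono le_rfl ?_
        rintro _ ⟨y, hy, rfl⟩
        rw [hW'set]
        rcases hy with hy | hy
        · exact Or.inl hy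
        · exact Or.inr hy
      have h2 : ApproxOn (W' : Set Y) m E := by
        apply approxOn_of_restrict V W' (fun x => (hcov x).elim (fun h => Or.inr (Or.inl h)) Or.inl)
          m E (hvW'.mono (by omega) subset_rfl)
        refine h1.mono ?_
        intro y hy
        have hy' : V.ι.base y ∈ (W' : Set Y) := hy
        rw [hW'set] at hy'
        rcases hy' with hy' | hy'
        · exact Or.inl hy'
        · exact Or.inr hy'
      exact h2.mono (fun x hx => Or.inr hx)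
    | succ n ih =>
      intro E hE hpc hv hvU
      let t : ℤ := m - rV + n
      have hvU' : VanishGE (t + 1) E (U : Set Y) :=
        hvU.mono (by simp only [t]; push_cast; omega) subset_rfl
      have hEU_le : (RU.obj E).IsLE t := by
        have h1 := (vanishGE_iff_isLE U (t + 1) E).1 hvU'
        have h2 : t + 1 - 1 = t := by omega
        rw [h2] at h1
        exact h1
      -- approximate `E|_U` at level `t`
      have hAU1 : ApproxOn (ZU : Set ↥(U : Scheme.{u})) t (RU.obj E) := by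
        apply hU' t (RU.obj E) (isQCohD_restrictJ U.ι E hE)
          (isPC_mono (by simp only [t]; omega) (isPC_restrictD U.ι hpc))
        rw [vanishGE_restrictD_iff]
        refine hv.mono (by simp only [t]; omega) ?_
        rintro _ ⟨y, hy, rfl⟩
        exact hy
      obtain ⟨P_U, C_U, a_U, π_U, δ_U, hT_U, hP_U, hP_UZ, hC_U⟩ := hAU1.exists_P
      have hP_U_le : P_U.IsLE t := by
        have h1 := inv_rot_of_distTriang _ hT_U
        have h2 : DerivedCategory.TStructure.t.IsLE (Triangle.mk a_U π_U δ_U).invRotate.obj₁ t :=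
          DerivedCategory.TStructure.t.isLE_shift C_U (t - 1) (-1) t (by omega)
        exact DerivedCategory.TStructure.t.isLE₂ _ h1 t h2 hEU_le
      -- extend `P_U ⊕ P_U[1]` to `Y`
      let GU := DCoh.restrictD jU
      let F := GU.obj P_U
      have hF : DCoh.IsPerfect F := isPerfect_restrictJ jU P_U hP_U
      have hFZ : VanishOn F ((jV ⁻¹ᵁ ZV : ((U ⊓ V : Y.Opens) : Scheme.{u}).Opens) :
          Set ↥((U ⊓ V : Y.Opens) : Scheme.{u})) := by
        rw [vanishOn_restrictD_iff]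
        refine VanishOn.mono hP_UZ ?_
        rintro _ ⟨x, hx, rfl⟩
        show U.ι.base (jU.base x) ∈ W
        have h1 : U.ι.base (jU.base x) = V.ι.base (jV.base x) := by
          rw [← Scheme.Hom.comp_apply, ← Scheme.Hom.comp_apply, hjU, hjV]
        rw [h1]
        exact hx
      obtain ⟨P₂, hP₂, hP₂Z, ⟨e₂⟩⟩ := extend_sum_shift_supp_affine_imm jV ZV hZV F hF hFZ
      let A := P_U ⊞ P_U⟦(1 : ℤ)⟧
      have hA : DCoh.IsPerfect A := isPerfect_biprod _ _ hP_U (isPerfect_shift hP_U 1)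
      have hAZ : VanishOn A (ZU : Set ↥(U : Scheme.{u})) :=
        VanishOn.biprod ZU hP_UZ (VanishOn.shift ZU hP_UZ 1)
      have hA_le : A.IsLE t := by
        apply isLE_biprod _ _ t hP_U_le
        haveI := hP_U_le
        haveI : (P_U⟦(1 : ℤ)⟧).IsLE (t - 1) :=
          DerivedCategory.TStructure.t.isLE_shift P_U t 1 (t - 1) (by omega)
        exact DerivedCategory.TStructure.t.isLE_of_le (P_U⟦(1 : ℤ)⟧) (t - 1) t (by omega)
      haveI : PreservesBinaryBiproducts GU := preservesBinaryBiproducts_of_preservesBiproducts GU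
      let c : GU.obj A ≅ (DCoh.restrictD jV).obj P₂ :=
        GU.mapBiprod P_U (P_U⟦(1 : ℤ)⟧) ≪≫
          biprod.mapIso (Iso.refl F) ((GU.commShiftIso (1 : ℤ)).app P_U) ≪≫ e₂.symm
      obtain ⟨Q', ⟨a₁⟩, ⟨a₂⟩⟩ := Groth.Agent.Lib.Helper5.MV.exists_glue' U V A P₂ c
      have hQ' : DCoh.IsPerfect Q' := by
        apply isPerfect_of_restrict_cover
        intro x
        rcases hcov x with hx | hx
        · exact ⟨U, hx, isPerfect_of_iso a₁.symm hA⟩
        · exact ⟨V, hx, isPerfect_of_iso a₂.symm hP₂⟩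
      have hQ'Z : VanishOn Q' (W : Set Y) :=
        hvan Q' (VanishOn.of_iso a₁.symm hAZ) (VanishOn.of_iso a₂.symm hP₂Z)
      -- extend the map
      let αU : RU.obj Q' ⟶ RU.obj E := a₁.hom ≫ biprod.fst ≫ a_U
      obtain ⟨R', β, γ, hR', hR'W, hβU, hβγ⟩ :=
        thomason_extension_mv' U V hcov hU hV hUVc W Q' E hQ' hE hQ'Z αU
      obtain ⟨E', q, d, hTγ⟩ := distinguished_cocone_triangle γ
      have hE'q : DCoh.IsQCohD E' :=
        isQCohD_of_triangle_right _ hTγ (isQCohD_of_isPerfect R' hR') hE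
      have hE'pc : DCoh.IsPseudoCoherentD (m - (rU + rV)) E' :=
        isPC_obj₃ _ hTγ _ (isPseudoCoherentD_of_isPerfect R' hR' _) hpc
      have hE'v : VanishGE (m - (rU + rV)) E' (W : Set Y) :=
        vanishGE_obj₃ W _ _ hTγ hR'W hv
      have hE'U : VanishGE (m - rV + n) E' (U : Set Y) := by
        rw [vanishGE_iff_isLE]
        have hTU := RU.map_distinguished _ hTγ
        haveI := hβU
        let eR : RU.obj R' ≅ A := asIso (RU.map β) ≪≫ a₁
        have hR'U_le : (RU.obj R').IsLE t := DerivedCategory.TStructure.t.isLE_of_iso eR.symm t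
        have hγ' : RU.map γ = eR.hom ≫ biprod.fst ≫ a_U := by
          rw [← hβγ]
          show RU.map β ≫ a₁.hom ≫ biprod.fst ≫ a_U = (RU.map β ≫ a₁.hom) ≫ biprod.fst ≫ a_U
          rw [Category.assoc]
        have hepi : Epi ((DerivedCategory.homologyFunctor (U : Scheme.{u}).Modules t).map
            (RU.map γ)) := by
          rw [hγ', Functor.map_comp, Functor.map_comp]
          haveI : IsSplitEpi (biprod.fst : A ⟶ P_U) := IsSplitEpi.mk' ⟨biprod.inl, biprod.inl_fst⟩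
          haveI : Epi ((DerivedCategory.homologyFunctor (U : Scheme.{u}).Modules t).map a_U) :=
            (isApprox_of_isLE_cone _ hT_U hC_U).2
          infer_instance
        exact isLE_cone_of_epi _ hTU t hR'U_le hEU_le hepi
      have hrec := ih E' hE'q hE'pc hE'v hE'U
      exact ApproxOn.compose q d _ (rot_of_distTriang _ hTγ) (isPerfect_shift hR' 1)
        (VanishOn.shift W hR'W 1) hrec
  intro E hE hpc hv
  obtain ⟨b, hb⟩ := exists_isLE_of_isPC (RU.obj E) _ (isPC_restrictD U.ι hpc)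
  obtain ⟨n, hn⟩ : ∃ n : ℕ, b + 1 ≤ m - rV + n := ⟨(b + 1 - (m - rV)).toNat, by omega⟩
  refine key n E hE hpc hv ?_
  rw [vanishGE_iff_isLE]
  exact DerivedCategory.TStructure.t.isLE_of_le (RU.obj E) b _ (by omega)


/-- the support-form of "approximation holds" (for the closed set `Wᶜ`) gives `ApproxHolds` -/
theorem approxHolds_of_forall (W : Y.Opens)
    (h : ∃ r : ℤ, ∀ (m : ℤ) (E : DCoh.D Y), DCoh.IsQCohD E →
      DCoh.IsPseudoCoherentD (m - r) E →
      (∀ i : ℤ, m - r ≤ i → CohB1.support (DCoh.HD E i) ⊆ (W : Set Y)ᶜ) →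
      ∃ (P : DCoh.D Y) (α : P ⟶ E), DCoh.IsPerfect P ∧
        (∀ i : ℤ, CohB1.support (DCoh.HD P i) ⊆ (W : Set Y)ᶜ) ∧
        (∀ i : ℤ, m < i → IsIso ((DerivedCategory.homologyFunctor _ i).map α)) ∧
        Epi ((DerivedCategory.homologyFunctor _ m).map α)) :
    ApproxHolds Y (W : Set Y) := by
  obtain ⟨r, hr⟩ := h
  refine ⟨max r 0, le_max_right _ _, ?_⟩
  intro m E hE hpc hv
  have h1 : m - max r 0 ≤ m - r := by have := le_max_left r 0; omega
  obtain ⟨P, α, hP, hPs, hiso, hepi⟩ := hr m E hE (isPC_mono h1 hpc) (by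
    intro i hi x hx hxW
    exact hx (hv x hxW i (by omega)))
  refine ApproxOn.of_map α hP ?_ ⟨hiso, hepi⟩
  have := vanishOn_of_support (W : Set Y)ᶜ P hPs
  rwa [compl_compl] at this

/-- `ApproxHolds` gives the support-form of "approximation holds" -/
theorem forall_of_approxHolds (W : Y.Opens) (h : ApproxHolds Y (W : Set Y)) :
    ∃ r : ℤ, ∀ (m : ℤ) (E : DCoh.D Y), DCoh.IsQCohD E →
      DCoh.IsPseudoCoherentD (m - r) E →
      (∀ i : ℤ, m - r ≤ i → CohB1.support (DCoh.HD E i) ⊆ (W : Set Y)ᶜ) →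
      ∃ (P : DCoh.D Y) (α : P ⟶ E), DCoh.IsPerfect P ∧
        (∀ i : ℤ, CohB1.support (DCoh.HD P i) ⊆ (W : Set Y)ᶜ) ∧
        (∀ i : ℤ, m < i → IsIso ((DerivedCategory.homologyFunctor _ i).map α)) ∧
        Epi ((DerivedCategory.homologyFunctor _ m).map α) := by
  obtain ⟨r, hr0, hr⟩ := h
  refine ⟨r, fun m E hE hpc hsupp => ?_⟩
  have hv : VanishGE (m - r) E (W : Set Y) := by
    intro x hx n hn
    by_contra hns
    exact hsupp n hn hns hx
  obtain ⟨P, α, hP, hPW, happ⟩ := (hr m E hE hpc hv).exists_map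
  refine ⟨P, α, hP, ?_, happ.1, happ.2⟩
  intro i x hx hxW
  exact hx (hPW x hxW i)

/-- **the Mayer–Vietoris step for approximation, statement form**: `X = U ∪ V`, `V` affine,
`U` and `U ∩ V` quasi-compact -/
theorem approx_mv_statement {X : Scheme.{u}} (U V : X.Opens)
    (hU : IsCompact (U : Set ↥X)) (hV : IsAffineOpen V)
    (hUV : IsCompact ((U ⊓ V : X.Opens) : Set ↥X)) (hcov : U ⊔ V = ⊤)
    (hAU : ∀ (T : Set ↥(U : Scheme.{u})), IsClosed T → IsRetrocompact Tᶜ →
      ∃ r : ℤ, ∀ (m : ℤ) (E : DCoh.D (U : Scheme.{u})), DCoh.IsQCohD E →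
        DCoh.IsPseudoCoherentD (m - r) E →
        (∀ i : ℤ, m - r ≤ i → CohB1.support (DCoh.HD E i) ⊆ T) →
        ∃ (P : DCoh.D (U : Scheme.{u})) (α : P ⟶ E), DCoh.IsPerfect P ∧
          (∀ i : ℤ, CohB1.support (DCoh.HD P i) ⊆ T) ∧
          (∀ i : ℤ, m < i → IsIso ((DerivedCategory.homologyFunctor _ i).map α)) ∧
          Epi ((DerivedCategory.homologyFunctor _ m).map α))
    (T : Set ↥X) (hT : IsClosed T) (hTc : IsRetrocompact Tᶜ) :
    ∃ r : ℤ, ∀ (m : ℤ) (E : DCoh.D X), DCoh.IsQCohD E →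
      DCoh.IsPseudoCoherentD (m - r) E →
      (∀ i : ℤ, m - r ≤ i → CohB1.support (DCoh.HD E i) ⊆ T) →
      ∃ (P : DCoh.D X) (α : P ⟶ E), DCoh.IsPerfect P ∧
        (∀ i : ℤ, CohB1.support (DCoh.HD P i) ⊆ T) ∧
        (∀ i : ℤ, m < i → IsIso ((DerivedCategory.homologyFunctor _ i).map α)) ∧
        Epi ((DerivedCategory.homologyFunctor _ m).map α) := by
  let W : X.Opens := ⟨Tᶜ, hT.isOpen_compl⟩
  have hWc : (W : Set X)ᶜ = T := compl_compl T
  have hWVc : IsCompact ((W ⊓ V : X.Opens) : Set X) := hTc hV.isCompact V.isOpen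
  let ZU : (U : Scheme.{u}).Opens := U.ι ⁻¹ᵁ W
  have hZUc : IsRetrocompact ((ZU : Set ↥(U : Scheme.{u}))ᶜᶜ) := by
    rw [compl_compl]
    intro O hOc hO
    rw [U.ι.isOpenEmbedding.isInducing.isCompact_iff]
    have himg : (fun x => U.ι.base x) '' ((ZU : Set ↥(U : Scheme.{u})) ∩ O) =
        Tᶜ ∩ ((fun x => U.ι.base x) '' O) := by
      ext y
      constructor
      · rintro ⟨x, ⟨hx1, hx2⟩, rfl⟩
        exact ⟨hx1, x, hx2, rfl⟩
      · rintro ⟨hy, x, hx, rfl⟩
        exact ⟨x, ⟨hy, hx⟩, rfl⟩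
    show IsCompact ((fun x => U.ι.base x) '' ((ZU : Set ↥(U : Scheme.{u})) ∩ O))
    rw [himg]
    exact hTc (hOc.image U.ι.continuous) (U.ι.isOpenEmbedding.isOpenMap O hO)
  have hAU' : ApproxHolds (U : Scheme.{u}) (ZU : Set ↥(U : Scheme.{u})) :=
    approxHolds_of_forall ZU (hAU _ ZU.isOpen.isClosed_compl hZUc)
  have h := forall_of_approxHolds W (approxHolds_mv' U V hcov hU hV hUV W hWVc hAU')
  rw [hWc] at h
  exact h

end Groth.Agent.Lib.Helper5.Approx
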